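import Cfsg.Agent.GreenCusp.GSet

/-!
# Primary elements as unipotent endomorphisms over an extension field
-/

set_option autoImplicit false
set_option linter.unusedSectionVars false
set_option linter.unusedVariables false

namespace Cfsg.Agent.GreenCusp

open Module Polynomial Finset
open Cfsg.Agent.SteinbergGL (mob mob_orderIso)
open scoped Classical

universe u v w

variable {F : Type u} [Field F] [Fintype F]

theorem aeval_pow_card_pow {A : Type*} [Ring A] [Algebra F A] (g : A) (f : F[X]) (j : ℕ) :
    aeval (g ^ Fintype.card F ^ j) f = (aeval g f) ^ Fintype.card F ^ j := by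
  induction j generalizing g with
  | zero => simp
  | succ j ih =>
    rw [pow_succ, pow_mul, pow_mul, ← ih, ← map_pow, ← FiniteField.expand_card,
      Polynomial.expand_aeval]

variable {V : Type v} [AddCommGroup V] [Module F V] [Finite V]

noncomputable local instance {W : Type v} [AddCommGroup W] [Module F W] [Finite W] :
    Fintype (Submodule F W) := Fintype.ofFinite _

theorem cDim_conj {V' : Type v} [AddCommGroup V'] [Module F V'] [Finite V'] (e : V ≃ₗ[F] V')
    (T : Module.End F V) : cDim (e.conj T) = cDim T := by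
  unfold cDim
  refine (Fintype.sum_equiv (Submodule.orderIsoMapComap e).toEquiv _ _ fun W => ?_).symm
  show _ = mu (e.conj T) (W.map e.toLinearMap) * _
  rw [mu_conj]
  show _ = mu T W * (finrank F (W.map e.toLinearMap) : ℤ)
  rw [LinearEquiv.finrank_map_eq]

theorem cDim_eq_sum_inv (T : Module.End F V) [Fintype (InvSub T)] :
    cDim T = ∑ W : InvSub T, mob W * (finrank F W.1 : ℤ) := by
  have h := cSum_eq_sum_inv T (fun W => (finrank F W : ℂ))
  apply (Int.cast_injective (α := ℂ))
  simpa [cDim, cSum] using h

section Ext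

variable {K : Type w} [Field K] [Fintype K] [Algebra F K]

theorem exists_aeval_eq {x : K} (hgen : Algebra.adjoin F {x} = ⊤) (k : K) :
    ∃ p : F[X], aeval x p = k := by
  have : k ∈ Algebra.adjoin F {x} := hgen ▸ Algebra.mem_top
  rwa [Algebra.adjoin_singleton_eq_range_aeval] at this

theorem smul_comm_of_gen {x : K} (hgen : Algebra.adjoin F {x} = ⊤) {M : Type*} [AddCommGroup M]
    [Module F M] [Module K M] [IsScalarTower F K M] {M' : Type*} [AddCommGroup M'] [Module F M']
    [Module K M'] [IsScalarTower F K M'] (f : M →ₗ[F] M') (hf : ∀ m, f (x • m) = x • f m)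
    (k : K) (m : M) : f (k • m) = k • f m := by
  obtain ⟨p, rfl⟩ := exists_aeval_eq hgen k
  induction p using Polynomial.induction_on generalizing m with
  | C a => rw [aeval_C, algebraMap_smul, algebraMap_smul, map_smul]
  | add p q hp hq => rw [map_add, add_smul, add_smul, map_add, hp, hq]
  | monomial j a hj => rw [pow_succ, ← mul_assoc, map_mul, aeval_X, mul_smul, mul_smul, hj, hf]

theorem exists_algHom_of_gen {x : K} (hgen : Algebra.adjoin F {x} = ⊤) {A : Type*} [Ring A]
    [Algebra F A] (s : A) (hs : aeval s (minpoly F x) = 0) : ∃ φ : K →ₐ[F] A, φ x = s := by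
  choose c hc using fun k : K => exists_aeval_eq (F := F) hgen k
  have key : ∀ (k : K) (p : F[X]), aeval x p = k → aeval s (c k) = aeval s p := by
    intro k p hp
    have : minpoly F x ∣ c k - p := minpoly.dvd F x (by rw [map_sub, hc, hp, sub_self])
    obtain ⟨r, hr⟩ := this
    rw [← sub_eq_zero, ← map_sub, hr, map_mul, hs, zero_mul]
  refine ⟨{ toFun := fun k => aeval s (c k), map_one' := ?_, map_mul' := fun k l => ?_,
            map_zero' := ?_, map_add' := fun k l => ?_, commutes' := fun a => ?_ }, ?_⟩
  · rw [key 1 1 (map_one _), map_one]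
  · rw [key (k * l) (c k * c l) (by rw [map_mul, hc, hc]), map_mul]
  · rw [key 0 0 (map_zero _), map_zero]
  · rw [key (k + l) (c k + c l) (by rw [map_add, hc, hc]), map_add]
  · show aeval s (c (algebraMap F K a)) = _
    rw [key _ (C a) (aeval_C _ _), aeval_C]
  · show aeval s (c x) = s
    rw [key x X (aeval_X _), aeval_X]

variable (F) in
/-- Extension of the scalars of an endomorphism, as an algebra map. -/
def resEnd (K : Type w) [Field K] [Algebra F K] (M : Type*) [AddCommGroup M] [Module F M]
    [Module K M] [IsScalarTower F K M] : Module.End K M →ₐ[F] Module.End F M where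
  toFun f := f.restrictScalars F
  map_one' := rfl
  map_mul' _ _ := rfl
  map_zero' := rfl
  map_add' _ _ := rfl
  commutes' _ := LinearMap.ext fun _ => rfl

variable {M : Type v} [AddCommGroup M] [Module F M] [Module K M] [IsScalarTower F K M] [Finite M]

/-- The endomorphism `x (1 + N)`. -/
noncomputable def model (x : K) (N : Module.End K M) : Module.End F M :=
  resEnd F K M (x • (1 + N))

theorem model_apply (x : K) (N : Module.End K M) (m : M) :
    model (F := F) x N m = x • (m + N m) := rfl

variable (x : K) (hx : x ≠ 0) (hgen : Algebra.adjoin F {x} = ⊤)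

theorem model_nilpotent {N : Module.End K M} (hN : IsNilpotent N) :
    IsNilpotent (aeval (model (F := F) x N) (minpoly F x)) := by
  rw [model, Polynomial.aeval_algHom_apply]
  refine IsNilpotent.map ?_ (resEnd F K M)
  rw [← aeval_map_algebraMap K]
  obtain ⟨q, hq⟩ : (X - C x) ∣ (minpoly F x).map (algebraMap F K) := by
    rw [dvd_iff_isRoot, IsRoot, eval_map_algebraMap, minpoly.aeval]
  rw [hq, map_mul]
  have e : aeval (x • (1 + N)) (X - C x) = x • N := by
    rw [map_sub, aeval_X, aeval_C, smul_add, Algebra.algebraMap_eq_smul_one, add_sub_cancel_left]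
  have hc : Commute (aeval (x • (1 + N)) (X - C x)) (aeval (x • (1 + N)) q) :=
    (Commute.all (X - C x) q).map _
  refine hc.isNilpotent_mul_right ?_
  rw [e]
  exact hN.smul x

theorem model_pow {N : Module.End K M} {j : ℕ} (hj : x ^ Fintype.card F ^ j = x)
    (hN : N ^ Fintype.card F ^ j = 0) :
    model (F := F) x N ^ Fintype.card F ^ j = resEnd F K M (x • 1) := by
  rw [model, ← map_pow, _root_.smul_pow, hj]
  congr 2
  have h := aeval_pow_card_pow (F := F) (1 + N) (X - 1) j
  rw [map_sub, map_sub, aeval_X, aeval_X, map_one, map_one, add_sub_cancel_left, hN] at h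
  exact sub_eq_zero.1 h

include hgen in
theorem exists_exponent {A : Type*} [Ring A] [Algebra F A] (g : A)
    (hg : IsNilpotent (aeval g (minpoly F x))) :
    ∃ j : ℕ, x ^ Fintype.card F ^ j = x ∧ (∀ m, (aeval g (minpoly F x)) ^ m = 0 →
      aeval (g ^ Fintype.card F ^ j) (minpoly F x) = 0) ∧
      aeval (g ^ Fintype.card F ^ j) (minpoly F x) = 0 ∧ IsNilpotent (g ^ Fintype.card F ^ j - g) ∧
      ∀ m, Fintype.card F ^ m ≤ Fintype.card F ^ j → m ≤ j := by
  obtain ⟨m, hm⟩ := hg
  have hq : 2 ≤ Fintype.card F := Fintype.one_lt_card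
  set j := finrank F K * m
  have hj : x ^ Fintype.card F ^ j = x := by
    rw [pow_mul, ← Module.card_eq_pow_finrank (K := F) (V := K)]
    exact FiniteField.pow_card_pow m x
  have hm' : m ≤ Fintype.card F ^ j := by
    refine le_trans (le_trans (Nat.le_mul_of_pos_left m (finrank_pos (R := F) (M := K))) le_rfl) ?_
    exact (Nat.lt_pow_self (by omega)).le
  have hz : aeval (g ^ Fintype.card F ^ j) (minpoly F x) = 0 := by
    rw [aeval_pow_card_pow]
    exact pow_eq_zero_of_le hm' hm
  refine ⟨j, hj, fun _ _ => hz, hz, ?_, fun m h => (Nat.pow_le_pow_iff_right (by omega)).1 h⟩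
  obtain ⟨r, hr⟩ : minpoly F x ∣ X ^ Fintype.card F ^ j - X :=
    minpoly.dvd F x (by rw [map_sub, map_pow, aeval_X, hj, sub_self])
  have e := congrArg (aeval g) hr
  rw [map_sub, map_pow, aeval_X, map_mul] at e
  rw [e]
  exact ((Commute.all _ r).map (aeval g)).isNilpotent_mul_right ⟨m, hm⟩

variable (V)

/-- Elements of the group whose primary polynomial is `P`. -/
noncomputable def setP (P : F[X]) [Fintype (V ≃ₗ[F] V)] : Finset (V ≃ₗ[F] V) :=
  univ.filter fun g => IsNilpotent (aeval g.toLinearMap P)

variable {V}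

include hx hgen in
theorem model_injective {N : Module.End K M} (hN : IsNilpotent N) :
    Function.Injective (model (F := F) x N) := by
  intro a b h
  rw [model_apply, model_apply] at h
  have h' := smul_right_injective M hx h
  have hu : IsUnit (1 + N) := hN.isUnit_one_add
  obtain ⟨U, hU⟩ := hu
  have : (U : Module.End K M) a = (U : Module.End K M) b := by rw [hU]; simpa using h'
  have := congrArg (↑(U⁻¹) : Module.End K M) this
  rwa [← Module.End.mul_apply, ← Module.End.mul_apply, Units.inv_mul, Module.End.one_apply,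
    Module.End.one_apply] at this

/-- The group element attached to a frame and a nilpotent endomorphism. -/
noncomputable def toG (hx : x ≠ 0) (hgen : Algebra.adjoin F {x} = ⊤)
    (p : (M ≃ₗ[F] V) × Nil K M) : V ≃ₗ[F] V :=
  (p.1.symm.trans (LinearEquiv.ofBijective (model x p.2.1)
    (Finite.injective_iff_bijective.1 (model_injective x hx hgen p.2.2)))).trans p.1

theorem toG_toLinearMap (p : (M ≃ₗ[F] V) × Nil K M) :
    (toG x hx hgen p).toLinearMap = p.1.conj (model x p.2.1) := LinearMap.ext fun _ => rfl

theorem aeval_conj {V' : Type*} [AddCommGroup V'] [Module F V'] {W : Type*} [AddCommGroup W]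
    [Module F W] (e : W ≃ₗ[F] V') (T : Module.End F W) (P : F[X]) :
    aeval (e.conj T) P = e.conj (aeval T P) :=
  Polynomial.aeval_algHom_apply (e.conjAlgEquiv F).toAlgHom T P

theorem conj_isNilpotent {V' : Type*} [AddCommGroup V'] [Module F V'] {W : Type*} [AddCommGroup W]
    [Module F W] (e : W ≃ₗ[F] V') {T : Module.End F W} (h : IsNilpotent T) :
    IsNilpotent (e.conj T) :=
  h.map (e.conjAlgEquiv F)

theorem toG_mem [Fintype (V ≃ₗ[F] V)] (p : (M ≃ₗ[F] V) × Nil K M) :
    toG x hx hgen p ∈ setP V (minpoly F x) := by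
  rw [setP, mem_filter, toG_toLinearMap, aeval_conj]
  exact ⟨mem_univ _, conj_isNilpotent _ (model_nilpotent x p.2.2)⟩

include hx hgen in
theorem card_fiber [FiniteDimensional F V] [Fintype (V ≃ₗ[F] V)]
    [Fintype ((M ≃ₗ[F] V) × Nil K M)] (hdim : finrank F V = finrank F K * finrank K M)
    {g : V ≃ₗ[F] V} (hg : g ∈ setP V (minpoly F x)) :
    (univ.filter fun p : (M ≃ₗ[F] V) × Nil K M => toG x hx hgen p = g).card =
      Nat.card (M ≃ₗ[K] M) := by
  rw [setP, mem_filter] at hg
  obtain ⟨j, hj, -, hPs, hnil, hle⟩ := exists_exponent x hgen g.toLinearMap hg.2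
  set s : Module.End F V := g.toLinearMap ^ Fintype.card F ^ j with hs
  obtain ⟨φ, hφ⟩ := exists_algHom_of_gen hgen s hPs
  let _ : Module K V := Module.compHom V φ.toRingHom
  have hsmul : ∀ (k : K) (v : V), k • v = φ k v := fun _ _ => rfl
  have : IsScalarTower F K V := ⟨fun a k v => by rw [hsmul, map_smul, LinearMap.smul_apply, ← hsmul]⟩
  have : Module.Finite K M := Module.Finite.of_finite
  have : Module.Finite K V := Module.Finite.of_finite
  have hdim' : finrank K M = finrank K V := by
    have h := Module.finrank_mul_finrank F K V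
    rw [hdim] at h
    exact (Nat.eq_of_mul_eq_mul_left finrank_pos h).symm
  let e0 : M ≃ₗ[K] V := LinearEquiv.ofFinrankEq M V hdim'
  -- the frames carrying the scalar to the semisimple part
  have hfr : ∀ p : (M ≃ₗ[F] V) × Nil K M, toG x hx hgen p = g → ∀ m, p.1 (x • m) = x • p.1 m := by
    intro p hp m
    obtain ⟨r, hr⟩ := p.2.2
    have h1 : g.toLinearMap = p.1.conj (model x p.2.1) := by rw [← hp, toG_toLinearMap]
    -- enlarge the exponent
    set i := finrank F K * (r + j) with hi
    have hq : 2 ≤ Fintype.card F := Fintype.one_lt_card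
    have hxi : x ^ Fintype.card F ^ i = x := by
      rw [hi, pow_mul, ← Module.card_eq_pow_finrank (K := F) (V := K)]
      exact FiniteField.pow_card_pow _ x
    have hri : r ≤ Fintype.card F ^ i :=
      le_trans (le_trans (Nat.le_add_right r j) (Nat.le_mul_of_pos_left _ finrank_pos))
        (Nat.lt_pow_self (by omega)).le
    have h2 : g.toLinearMap ^ Fintype.card F ^ i = p.1.conj (resEnd F K M (x • 1)) := by
      rw [h1, ← model_pow x hxi (pow_eq_zero_of_le hri hr)]
      exact (map_pow (p.1.conjAlgEquiv F) (model x p.2.1) _).symm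
    have h3 : g.toLinearMap ^ Fintype.card F ^ i = s := by
      have hji : j ≤ i := le_trans (Nat.le_add_left j r) (Nat.le_mul_of_pos_left _ finrank_pos)
      obtain ⟨k, hk⟩ := Nat.exists_eq_add_of_le hji
      rw [hk, pow_add, pow_mul, ← hs]
      have hxk : x ^ Fintype.card F ^ k = x := by
        have := hxi
        rwa [hk, pow_add, pow_mul, hj] at this
      have h4 := Polynomial.aeval_algHom_apply φ x (X ^ Fintype.card F ^ k)
      rw [map_pow, map_pow, aeval_X, aeval_X, hφ, hxk, hφ] at h4
      exact h4
    rw [hsmul, hφ, ← h3, h2, LinearEquiv.conj_apply_apply, LinearEquiv.symm_apply_apply]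
    rfl
  have hu : ∀ (e : M ≃ₗ[F] V), (∀ m, e (x • m) = x • e m) → ∃ N : Nil K M, toG x hx hgen (e, N) = g := by
    intro e he
    let T : Module.End F M := e.symm.conj g.toLinearMap
    have hT : ∀ m, T (x • m) = x • T m := by
      intro m
      apply e.injective
      show e (e.symm (g (e (x • m)))) = e (x • e.symm (g (e m)))
      rw [he, he, LinearEquiv.apply_symm_apply, LinearEquiv.apply_symm_apply, hsmul, hsmul, hφ, hs]
      rw [← LinearEquiv.coe_coe g, ← Module.End.mul_apply, ← Module.End.mul_apply, ← pow_succ',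
        ← pow_succ]
    let TK : Module.End K M :=
      { toFun := T, map_add' := map_add T, map_smul' := fun k m => smul_comm_of_gen hgen T hT k m }
    refine ⟨⟨x⁻¹ • TK - 1, ?_⟩, ?_⟩
    · have e1 : x⁻¹ • TK - 1 = x⁻¹ • (TK - x • 1) := by
        rw [smul_sub, smul_smul, inv_mul_cancel₀ hx, one_smul]
      rw [e1]
      refine IsNilpotent.smul ?_ _
      have e2 : resEnd F K M (TK - x • 1) = -(e.symm.conj (s - g.toLinearMap)) := by
        refine LinearMap.ext fun m => ?_
        show T m - x • m = -(e.symm ((s - g.toLinearMap) (e m)))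
        rw [LinearMap.sub_apply, map_sub, neg_sub, ← hφ, ← hsmul, ← he, LinearEquiv.symm_apply_apply]
        rfl
      obtain ⟨r, hr⟩ := (conj_isNilpotent e.symm hnil).neg
      exact ⟨r, LinearMap.ext fun m => by
        have := LinearMap.congr_fun hr m
        rw [← e2, ← map_pow] at this
        exact this⟩
    · refine LinearEquiv.toLinearMap_injective ?_
      rw [toG_toLinearMap]
      refine LinearMap.ext fun v => ?_
      rw [LinearEquiv.conj_apply_apply, model_apply]
      show e (x • (e.symm v + (x⁻¹ • T (e.symm v) - e.symm v))) = g v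
      rw [add_sub_cancel, smul_inv_smul₀ hx]
      show e (e.symm (g (e (e.symm v)))) = g v
      rw [LinearEquiv.apply_symm_apply, LinearEquiv.apply_symm_apply]
  choose N hN using fun j : M ≃ₗ[K] M => hu ((j.trans e0).restrictScalars F)
    (fun m => (j.trans e0).map_smul x m)
  rw [← Fintype.card_subtype, ← Nat.card_eq_fintype_card]
  symm
  refine Nat.card_eq_of_bijective (fun j => ⟨((j.trans e0).restrictScalars F, N j), hN j⟩) ⟨?_, ?_⟩
  · intro a b h
    have h1 := congrArg (fun p => p.1.1) h
    refine LinearEquiv.ext fun m => e0.injective ?_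
    exact LinearEquiv.congr_fun h1 m
  · rintro ⟨⟨e, N'⟩, hp⟩
    have he := hfr _ hp
    let j : M ≃ₗ[K] M :=
      { toFun := fun m => e0.symm (e m)
        invFun := fun m => e.symm (e0 m)
        left_inv := fun m => by simp
        right_inv := fun m => by simp
        map_add' := fun a b => by simp
        map_smul' := fun k m => by
          show e0.symm (e.toLinearMap (k • m)) = _
          rw [RingHom.id_apply, smul_comm_of_gen hgen e.toLinearMap he k m, LinearEquiv.map_smul]
          rfl }
    refine ⟨j, Subtype.ext ?_⟩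
    have he' : (j.trans e0).restrictScalars F = e := LinearEquiv.ext fun m => e0.apply_symm_apply _
    refine Prod.ext he' ?_
    have h1 := hN j
    rw [he'] at h1
    have h2 := congrArg LinearEquiv.toLinearMap (h1.trans hp.symm)
    rw [toG_toLinearMap, toG_toLinearMap] at h2
    have h3 := e.conj.injective h2
    refine Subtype.ext (LinearMap.ext fun m => ?_)
    have h4 := LinearMap.congr_fun h3 m
    rw [model_apply, model_apply] at h4
    exact add_left_cancel (smul_right_injective M hx h4)

include hx hgen in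
theorem cDim_model [Nontrivial M] {N : Module.End K M} (hN : IsNilpotent N) :
    cDim (model (F := F) x N) = (finrank F K : ℤ) * wt K M N := by
  obtain ⟨r, hr⟩ := hN
  have hq : 2 ≤ Fintype.card F := Fintype.one_lt_card
  set i := finrank F K * r with hi
  have hxi : x ^ Fintype.card F ^ i = x := by
    rw [hi, pow_mul, ← Module.card_eq_pow_finrank (K := F) (V := K)]
    exact FiniteField.pow_card_pow _ x
  have hri : r ≤ Fintype.card F ^ i :=
    le_trans (Nat.le_mul_of_pos_left _ finrank_pos) (Nat.lt_pow_self (by omega)).le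
  have hpow := model_pow (F := F) x hxi (pow_eq_zero_of_le hri hr)
  have hxW : ∀ W : Submodule F M, W ≤ W.comap (model x N) → ∀ m ∈ W, x • m ∈ W := by
    intro W hW m hm
    have key : ∀ k : ℕ, ∀ m ∈ W, (model (F := F) x N ^ k) m ∈ W := by
      intro k
      induction k with
      | zero => intro m hm; simpa using hm
      | succ k ih => intro m hm; rw [pow_succ, Module.End.mul_apply]; exact ih _ (hW hm)
    have := key (Fintype.card F ^ i) m hm
    rwa [hpow] at this
  have hKW : ∀ W : Submodule F M, W ≤ W.comap (model x N) → ∀ (k : K), ∀ m ∈ W, k • m ∈ W := by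
    intro W hW k m hm
    obtain ⟨p, rfl⟩ := exists_aeval_eq hgen k
    induction p using Polynomial.induction_on generalizing m with
    | C a => rw [aeval_C, algebraMap_smul]; exact W.smul_mem a hm
    | add p q hp hq => rw [map_add, add_smul]; exact W.add_mem (hp m hm) (hq m hm)
    | monomial l a hl => rw [pow_succ, ← mul_assoc, map_mul, aeval_X, mul_smul]; exact hl _ (hxW W hW m hm)
  let Ψ : InvSub (model (F := F) x N) ≃o InvSub N :=
    { toFun := fun W => ⟨{ W.1.toAddSubmonoid with smul_mem' := fun k m hm => hKW W.1 W.2 k m hm },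
        fun m hm => by
          have h1 := hKW W.1 W.2 x⁻¹ _ (W.2 hm)
          rw [model_apply, inv_smul_smul₀ hx] at h1
          have h2 := W.1.sub_mem h1 hm
          rw [add_sub_cancel_left] at h2
          exact h2⟩
      invFun := fun W => ⟨W.1.restrictScalars F, fun m hm => W.1.smul_mem x (W.1.add_mem hm (W.2 hm))⟩
      left_inv := fun W => rfl
      right_inv := fun W => rfl
      map_rel_iff' := Iff.rfl }
  have : Fintype (InvSub (model (F := F) x N)) := Fintype.ofFinite _
  have : Fintype (InvSub N) := Fintype.ofFinite _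
  have hN : IsNilpotent N := ⟨r, hr⟩
  rw [cDim_eq_sum_inv, wt, ← cDim_nilpotent hN, cDim_eq_sum_inv (F := K), Finset.mul_sum]
  refine Fintype.sum_equiv Ψ.toEquiv _ _ fun W => ?_
  show _ = _ * (mob (Ψ W) * _)
  rw [mob_orderIso, mul_left_comm]
  congr 1
  rw [← Nat.cast_mul, Nat.cast_inj]
  show finrank F W.1 = finrank F K * finrank K (Ψ W).1
  rw [Module.finrank_mul_finrank F K (Ψ W).1]
  let i : W.1 ≃ₗ[F] (Ψ W).1 :=
    { toFun := fun m => ⟨m.1, m.2⟩
      invFun := fun m => ⟨m.1, m.2⟩
      map_add' := fun _ _ => rfl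
      map_smul' := fun _ _ => rfl
      left_inv := fun _ => rfl
      right_inv := fun _ => rfl }
  exact i.finrank_eq

include hx hgen in
/-- Sums over primary elements are sums over nilpotent endomorphisms over the extension. -/
theorem sum_setP [FiniteDimensional F V] [Fintype (V ≃ₗ[F] V)] [Fintype (Nil K M)] [Nontrivial M]
    (hdim : finrank F V = finrank F K * finrank K M) (Φ : ℤ → ℂ) :
    (Nat.card (M ≃ₗ[K] M) : ℂ) * ∑ g ∈ setP V (minpoly F x), Φ (cDim g.toLinearMap) =
      (Nat.card (V ≃ₗ[F] V) : ℂ) * ∑ N : Nil K M, Φ ((finrank F K : ℤ) * wt K M N.1) := by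
  have : Module.Finite K M := Module.Finite.of_finite
  have : Module.Finite F M := Module.Finite.of_finite
  have hd : finrank F M = finrank F V := by rw [hdim, Module.finrank_mul_finrank]
  obtain e1 : M ≃ₗ[F] V := LinearEquiv.ofFinrankEq M V hd
  let eqv : (V ≃ₗ[F] V) ≃ (M ≃ₗ[F] V) :=
    { toFun := fun g => e1.trans g
      invFun := fun e => e1.symm.trans e
      left_inv := fun g => LinearEquiv.ext fun v => by simp
      right_inv := fun e => LinearEquiv.ext fun m => by simp }
  have : Fintype (M ≃ₗ[F] V) := Fintype.ofEquiv _ eqv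
  have h1 : ∑ p : (M ≃ₗ[F] V) × Nil K M, Φ (cDim (toG x hx hgen p).toLinearMap) =
      (Nat.card (M ≃ₗ[K] M) : ℂ) * ∑ g ∈ setP V (minpoly F x), Φ (cDim g.toLinearMap) := by
    rw [← Finset.sum_fiberwise_of_maps_to (t := setP V (minpoly F x)) (g := toG x hx hgen)
      (fun p _ => toG_mem x hx hgen p), Finset.mul_sum]
    refine Finset.sum_congr rfl fun g hg => ?_
    rw [Finset.sum_congr rfl fun p hp => by rw [(Finset.mem_filter.1 hp).2], Finset.sum_const,
      card_fiber x hx hgen hdim hg, nsmul_eq_mul]
  rw [← h1, Fintype.sum_prod_type, Nat.card_congr eqv, Nat.card_eq_fintype_card, ← Finset.card_univ,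
    ← nsmul_eq_mul, ← Finset.sum_const]
  refine Finset.sum_congr rfl fun e _ => Finset.sum_congr rfl fun N _ => ?_
  rw [toG_toLinearMap]
  show Φ (cDim (e.conj (model x N.1))) = _
  rw [cDim_conj, cDim_model x hx hgen N.2]

end Ext

end Cfsg.Agent.GreenCusp
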