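import Cfsg.Agent.GreenCusp.Primary
import Cfsg.Agent.GreenCusp.Transport

/-!
# Averages over the group and the total weight of nilpotent endomorphisms
-/

set_option autoImplicit false
set_option linter.unusedSectionVars false
set_option linter.unusedVariables false

namespace Cfsg.Agent.GreenCusp

open Module Polynomial Finset
open scoped Classical

universe u v w

section Count

variable {G : Type u} [Group G] [Fintype G] {X : Type v} (act : G →* Equiv.Perm X)

theorem sum_card_fix (H : Subgroup G) (S : Finset X) (x₀ : X)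
    (hS : ∀ h ∈ H, act h x₀ ∈ S) (ht : ∀ x ∈ S, ∃ h ∈ H, act h x₀ = x) :
    ∑ x ∈ S, Nat.card (H ⊓ fixSub act x : Subgroup G) = Nat.card H := by
  have e : Nat.card H = (univ.filter (· ∈ H)).card := by
    rw [Nat.card_eq_fintype_card, Fintype.card_subtype]
  rw [e, Finset.card_eq_sum_card_fiberwise (t := S) (f := fun h => act h x₀)
    (fun h hh => hS h (by simpa using hh))]
  refine Finset.sum_congr rfl fun x hx => ?_
  obtain ⟨k, hk, hkx⟩ := ht x hx
  rw [Nat.card_eq_fintype_card, Fintype.card_subtype]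
  refine Finset.card_nbij' (fun h => h * k) (fun h => h * k⁻¹) ?_ ?_ ?_ ?_
  · intro h hh
    simp only [mem_coe, mem_filter, mem_univ, true_and, Subgroup.mem_inf, mem_fixSub] at hh ⊢
    exact ⟨H.mul_mem hh.1 hk, by rw [map_mul, Equiv.Perm.mul_apply, hkx, hh.2]⟩
  · intro h hh
    simp only [mem_coe, mem_filter, mem_univ, true_and, Subgroup.mem_inf, mem_fixSub] at hh ⊢
    refine ⟨H.mul_mem hh.1 (H.inv_mem hk), ?_⟩
    conv_lhs => rw [← hkx]
    rw [← Equiv.Perm.mul_apply, ← map_mul, inv_mul_cancel_right, hh.2]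
  · intro h _; exact mul_inv_cancel_right h k
  · intro h _; exact inv_mul_cancel_right h k

end Count

section Avg

variable {F : Type u} [Field F] [Fintype F] {V : Type v} [AddCommGroup V] [Module F V] [Finite V]
  [Fintype (V ≃ₗ[F] V)]

noncomputable local instance : Fintype (Submodule F V) := Fintype.ofFinite _

theorem exists_fix_move [FiniteDimensional F V] {W U U' : Submodule F V} (hU : W ≤ U) (hU' : W ≤ U')
    (h : finrank F U + 1 = finrank F V) (h' : finrank F U' + 1 = finrank F V) :
    ∃ g : V ≃ₗ[F] V, (∀ w ∈ W, g w = w) ∧ subPerm g U = U' := by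
  rcases eq_or_ne U U' with rfl | hne
  · exact ⟨LinearEquiv.refl F V, fun w _ => rfl, Submodule.map_id U⟩
  have hfun : ∀ U : Submodule F V, finrank F U + 1 = finrank F V →
      ∃ φ : V →ₗ[F] F, LinearMap.ker φ = U := by
    intro U hU
    have hlt : U < ⊤ := lt_top_iff_ne_top.2 fun e => by rw [e, finrank_top] at hU; omega
    obtain ⟨φ, hφ, hle⟩ := U.exists_le_ker_of_lt_top hlt
    refine ⟨φ, (Submodule.eq_of_le_of_finrank_eq hle ?_).symm⟩
    have := Module.Dual.finrank_ker_add_one_of_ne_zero hφ
    omega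
  obtain ⟨φ, hφ⟩ := hfun U h
  obtain ⟨φ', hφ'⟩ := hfun U' h'
  have hnot : ∀ A B : Submodule F V, finrank F A = finrank F B → A ≠ B → ∃ a ∈ A, a ∉ B :=
    fun A B hd hAB => SetLike.not_le_iff_exists.1 fun hle =>
      hAB (Submodule.eq_of_le_of_finrank_eq hle hd)
  obtain ⟨a, haU, haU'⟩ := hnot U U' (by omega) hne
  obtain ⟨b, hbU', hbU⟩ := hnot U' U (by omega) hne.symm
  rw [← hφ, LinearMap.mem_ker] at haU hbU
  rw [← hφ', LinearMap.mem_ker] at haU' hbU'
  set v := (φ' a)⁻¹ • a + (φ b)⁻¹ • b with hv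
  have hv1 : φ v = 1 := by rw [hv]; simp [haU, hbU]
  have hv2 : φ' v = 1 := by rw [hv]; simp [haU', hbU']
  let g : V ≃ₗ[F] V := LinearEquiv.ofLinearMap (LinearMap.id + (φ - φ').smulRight v)
    (LinearMap.id + (φ' - φ).smulRight v)
    (LinearMap.ext fun y => by
      simp only [LinearMap.comp_apply, LinearMap.add_apply, LinearMap.id_apply,
        LinearMap.smulRight_apply, LinearMap.sub_apply, map_add, map_smul, hv1, hv2, smul_eq_mul,
        mul_one]
      module)
    (LinearMap.ext fun y => by
      simp only [LinearMap.comp_apply, LinearMap.add_apply, LinearMap.id_apply,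
        LinearMap.smulRight_apply, LinearMap.sub_apply, map_add, map_smul, hv1, hv2, smul_eq_mul,
        mul_one]
      module)
  have hg : ∀ y, g y = y + (φ y - φ' y) • v := fun y => rfl
  refine ⟨g, fun w hw => ?_, ?_⟩
  · rw [hg, show φ w = 0 from (hφ ▸ hU hw : w ∈ LinearMap.ker φ),
      show φ' w = 0 from (hφ' ▸ hU' hw : w ∈ LinearMap.ker φ'), sub_zero, zero_smul, add_zero]
  · rw [subPerm_apply]
    refine Submodule.eq_of_le_of_finrank_eq ?_ (by rw [LinearEquiv.finrank_map_eq]; omega)
    rintro _ ⟨y, hy, rfl⟩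
    rw [← hφ'] 
    show φ' (g y) = 0
    rw [hg, map_add, map_smul, hv2, show φ y = 0 from (hφ ▸ hy : y ∈ LinearMap.ker φ)]
    simp

/-- Averages of the Moebius weights over subgroups between the fixer and the stabilizer. -/
theorem sum_mu_between [FiniteDimensional F V] (W : Submodule F V) : ∀ H : Subgroup (V ≃ₗ[F] V),
    (∀ g : V ≃ₗ[F] V, (∀ w ∈ W, g w = w) → g ∈ H) → H ≤ fixSub subPerm W →
    ∑ g ∈ univ.filter (· ∈ H), mu g.toLinearMap W =
      if W = ⊤ then (Nat.card H : ℤ)
      else if finrank F W + 1 = finrank F V then -(Nat.card H : ℤ) else 0 := by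
  induction W using WellFoundedGT.induction with
  | ind W ih =>
    intro H hfix hst
    by_cases hW : W = ⊤
    · subst hW
      rw [if_pos rfl, Finset.sum_congr rfl fun g _ => mu_top g.toLinearMap, Finset.sum_const,
        nsmul_one, Nat.card_eq_fintype_card, Fintype.card_subtype]
    rw [if_neg hW, Finset.sum_congr rfl fun g hg =>
      mu_rec ((map_eq_iff_inv g W).1 (hst (mem_filter.1 hg).2)) hW, Finset.sum_neg_distrib,
      Finset.sum_comm]
    have hterm : ∀ U ∈ univ.filter (fun U : Submodule F V => W < U),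
        ∑ g ∈ univ.filter (· ∈ H), mu g.toLinearMap U =
          if U = ⊤ then (Nat.card (H ⊓ fixSub subPerm U : Subgroup (V ≃ₗ[F] V)) : ℤ)
          else if finrank F U + 1 = finrank F V then
            -(Nat.card (H ⊓ fixSub subPerm U : Subgroup (V ≃ₗ[F] V)) : ℤ) else 0 := by
      intro U hU
      have hWU : W < U := (mem_filter.1 hU).2
      rw [← ih U hWU (H ⊓ fixSub subPerm U)
        (fun g hg => ⟨hfix g fun w hw => hg w (hWU.le hw), (map_eq_iff_inv g U).2 fun y hy => by
          show g y ∈ U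
          rw [hg y hy]; exact hy⟩) inf_le_right]
      refine (Finset.sum_subset (fun g hg => ?_) fun g hg hg' => ?_).symm
      · simp only [mem_filter, mem_univ, true_and, Subgroup.mem_inf] at hg ⊢
        exact hg.1
      · simp only [mem_filter, mem_univ, true_and, Subgroup.mem_inf, not_and] at hg hg'
        exact mu_of_not fun h => hg' hg ((map_eq_iff_inv g U).2 h)
    rw [Finset.sum_congr rfl hterm]
    have htopmem : (⊤ : Submodule F V) ∈ univ.filter (fun U : Submodule F V => W < U) :=
      mem_filter.2 ⟨mem_univ _, lt_top_iff_ne_top.2 hW⟩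
    rw [← Finset.add_sum_erase _ _ htopmem, if_pos rfl]
    have hHtop : (H ⊓ fixSub subPerm (⊤ : Submodule F V) : Subgroup (V ≃ₗ[F] V)) = H :=
      inf_eq_left.2 fun g _ => by
        rw [mem_fixSub, map_eq_iff_inv]; exact fun _ _ => trivial
    rw [hHtop]
    set S := univ.filter (fun U : Submodule F V => W < U ∧ finrank F U + 1 = finrank F V) with hS
    have hsum : ∑ U ∈ (univ.filter (fun U : Submodule F V => W < U)).erase ⊤,
        (if U = ⊤ then (Nat.card (H ⊓ fixSub subPerm U : Subgroup (V ≃ₗ[F] V)) : ℤ)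
          else if finrank F U + 1 = finrank F V then
            -(Nat.card (H ⊓ fixSub subPerm U : Subgroup (V ≃ₗ[F] V)) : ℤ) else 0) =
        -((∑ U ∈ S, Nat.card (H ⊓ fixSub subPerm U : Subgroup (V ≃ₗ[F] V)) : ℕ) : ℤ) := by
      rw [Nat.cast_sum, ← Finset.sum_neg_distrib]
      rw [Finset.sum_congr rfl fun U hU => if_neg (Finset.mem_erase.1 hU).1, ← Finset.sum_filter]
      refine Finset.sum_congr ?_ fun _ _ => rfl
      ext U
      simp only [hS, mem_filter, mem_erase, mem_univ, true_and, ne_eq]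
      exact ⟨fun h => ⟨h.1.2, h.2⟩, fun h => ⟨⟨fun e => by rw [e, finrank_top] at h; omega, h.1⟩, h.2⟩⟩
    rw [hsum]
    split_ifs with hcod
    · have : S = ∅ := Finset.filter_eq_empty_iff.2 fun U _ h => by
        have := Submodule.finrank_lt_finrank_of_lt h.1
        omega
      simp [this]
    · have hlt := lt_top_iff_ne_top.2 hW
      obtain ⟨φ, hφ, hle⟩ := W.exists_le_ker_of_lt_top hlt
      have hk := Module.Dual.finrank_ker_add_one_of_ne_zero hφ
      have hx₀ : W < LinearMap.ker φ := lt_of_le_of_ne hle fun e => hcod (by rw [e]; exact hk)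
      rw [sum_card_fix subPerm H S (LinearMap.ker φ)]
      · ring
      · intro h hh
        rw [hS, mem_filter]
        refine ⟨mem_univ _, ?_, ?_⟩
        · exact lt_of_eq_of_lt (hst hh).symm ((Submodule.orderIsoMapComap h).strictMono hx₀)
        · rw [subPerm_apply, LinearEquiv.finrank_map_eq]; exact hk
      · intro U hU
        rw [hS, mem_filter] at hU
        obtain ⟨g, hg, hgU⟩ := exists_fix_move hle hU.2.1.le hk hU.2.2
        exact ⟨g, hfix g hg, hgU⟩

/-- The average of the dimension weight is one. -/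
theorem sum_cDim [FiniteDimensional F V] [Nontrivial V] :
    ∑ g : V ≃ₗ[F] V, cDim g.toLinearMap = (Nat.card (V ≃ₗ[F] V) : ℤ) := by
  unfold cDim
  rw [Finset.sum_comm]
  have hterm : ∀ W : Submodule F V, ∑ g : V ≃ₗ[F] V, mu g.toLinearMap W * (finrank F W : ℤ) =
      (if W = ⊤ then (Nat.card (fixSub subPerm W : Subgroup (V ≃ₗ[F] V)) : ℤ)
      else if finrank F W + 1 = finrank F V then
        -(Nat.card (fixSub subPerm W : Subgroup (V ≃ₗ[F] V)) : ℤ) else 0) * (finrank F W : ℤ) := by
    intro W
    rw [← sum_mu_between W (fixSub subPerm W) (fun g hg => ?_) le_rfl, ← Finset.sum_mul]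
    · congr 1
      refine (Finset.sum_subset (Finset.subset_univ _) fun g _ hg' => ?_).symm
      simp only [mem_filter, mem_univ, true_and] at hg'
      exact mu_of_not fun h => hg' ((map_eq_iff_inv g W).2 h)
    · rw [mem_fixSub, map_eq_iff_inv]
      intro y hy
      show g y ∈ W
      rw [hg y hy]; exact hy
  rw [Finset.sum_congr rfl fun W _ => hterm W, ← Finset.add_sum_erase _ _ (mem_univ (⊤ : Submodule F V)),
    if_pos rfl, finrank_top]
  have hfix : fixSub (subPerm (F := F) (V := V)) ⊤ = ⊤ := eq_top_iff.2 fun g _ => by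
    rw [mem_fixSub, map_eq_iff_inv]; exact fun _ _ => trivial
  rw [hfix, Nat.card_congr Subgroup.topEquiv.toEquiv]
  set S := univ.filter (fun U : Submodule F V => finrank F U + 1 = finrank F V) with hS
  have hn : 1 ≤ finrank F V := finrank_pos
  have hsum : ∑ W ∈ univ.erase (⊤ : Submodule F V),
      (if W = ⊤ then (Nat.card (fixSub subPerm W : Subgroup (V ≃ₗ[F] V)) : ℤ)
      else if finrank F W + 1 = finrank F V then
        -(Nat.card (fixSub subPerm W : Subgroup (V ≃ₗ[F] V)) : ℤ) else 0) * (finrank F W : ℤ) =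
      -((finrank F V - 1 : ℕ) : ℤ) *
        ((∑ U ∈ S, Nat.card (fixSub subPerm U : Subgroup (V ≃ₗ[F] V)) : ℕ) : ℤ) := by
    rw [Nat.cast_sum, Finset.mul_sum]
    rw [Finset.sum_congr rfl fun U hU => by rw [if_neg (Finset.mem_erase.1 hU).1, ite_mul, zero_mul],
      ← Finset.sum_filter]
    refine Finset.sum_congr ?_ fun U hU => ?_
    · ext U
      simp only [hS, mem_filter, mem_erase, mem_univ, and_true, true_and, ne_eq]
      exact ⟨fun h => h.2, fun h => ⟨fun e => by rw [e, finrank_top] at h; omega, h⟩⟩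
    · rw [hS, mem_filter] at hU
      rw [show finrank F U = finrank F V - 1 by omega]
      ring
  rw [hsum]
  obtain ⟨φ, hφ, -⟩ := (⊥ : Submodule F V).exists_le_ker_of_lt_top bot_lt_top
  have hk := Module.Dual.finrank_ker_add_one_of_ne_zero hφ
  have hcard := sum_card_fix (subPerm (F := F) (V := V)) ⊤ S (LinearMap.ker φ) (fun h _ => by
      rw [hS, mem_filter, subPerm_apply, LinearEquiv.finrank_map_eq]
      exact ⟨mem_univ _, hk⟩)
    (fun U hU => by
      rw [hS, mem_filter] at hU
      obtain ⟨g, -, hg⟩ := exists_fix_move (W := ⊥) bot_le bot_le hk hU.2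
      exact ⟨g, trivial, hg⟩)
  simp only [top_inf_eq] at hcard
  rw [hcard, Nat.card_congr Subgroup.topEquiv.toEquiv, Nat.cast_sub hn]
  push_cast
  ring

end Avg

section Partition

variable {F : Type u} [Field F] [Fintype F] {V : Type u} [AddCommGroup V] [Module F V] [Finite V]
  [FiniteDimensional F V] [Fintype (V ≃ₗ[F] V)]
variable (L : Type u) [Field L] [IsAlgClosed L] [Algebra F L]

variable (F) in
/-- The roots of unity of order dividing `q ^ n - 1`. -/
noncomputable def rts (n : ℕ) : Finset L := nthRootsFinset (Fintype.card F ^ n - 1) (1 : L)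

variable {L}

theorem one_le_card_pow (n : ℕ) : 1 ≤ Fintype.card F ^ n :=
  Nat.one_le_pow _ _ Fintype.card_pos

theorem mem_rts {n : ℕ} (hn : 1 ≤ n) {x : L} :
    x ∈ rts F L n ↔ x ^ (Fintype.card F ^ n - 1) = 1 := by
  rw [rts, mem_nthRootsFinset]
  have := Nat.one_lt_pow (by omega : n ≠ 0) (Fintype.one_lt_card (α := F))
  omega

theorem rts_ne_zero {n : ℕ} (hn : 1 ≤ n) {x : L} (hx : x ∈ rts F L n) : x ≠ 0 := by
  rintro rfl
  rw [mem_rts hn, zero_pow] at hx
  · exact zero_ne_one hx
  · have := Nat.one_lt_pow (by omega : n ≠ 0) (Fintype.one_lt_card (α := F))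
    omega

theorem isIntegral_rts {n : ℕ} (hn : 1 ≤ n) {x : L} (hx : x ∈ rts F L n) : IsIntegral F x := by
  refine IsIntegral.of_pow (n := Fintype.card F ^ n - 1) ?_ ?_
  · have := Nat.one_lt_pow (by omega : n ≠ 0) (Fintype.one_lt_card (α := F))
    omega
  · rw [(mem_rts hn).1 hx]; exact isIntegral_one

theorem pow_card_rts {n : ℕ} (hn : 1 ≤ n) {x : L} (hx : x ∈ rts F L n) :
    x ^ Fintype.card F ^ n = x := by
  conv_lhs => rw [show Fintype.card F ^ n = Fintype.card F ^ n - 1 + 1 from
    (Nat.sub_add_cancel (one_le_card_pow n)).symm]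
  rw [pow_succ, (mem_rts hn).1 hx, one_mul]

theorem natDegree_dvd_of_pow {x : L} (hi : IsIntegral F x) {n : ℕ}
    (hx : x ^ Fintype.card F ^ n = x) : (minpoly F x).natDegree ∣ n := by
  refine (minpoly.irreducible hi).natDegree_dvd_of_dvd_X_pow_card_pow_sub_X ?_
  rw [Nat.card_eq_fintype_card]
  exact minpoly.dvd F x (by rw [map_sub, map_pow, aeval_X, hx, sub_self])

theorem mem_rts_of_dvd {x : L} (hi : IsIntegral F x) (h0 : x ≠ 0) {n : ℕ} (hn : 1 ≤ n)
    (hd : (minpoly F x).natDegree ∣ n) : x ∈ rts F L n := by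
  obtain ⟨c, hc⟩ := ((minpoly.irreducible hi).natDegree_dvd_iff_dvd_X_pow_card_pow_sub_X).1 hd
  have h1 := congrArg (aeval x) hc
  rw [map_sub, map_pow, aeval_X, map_mul, minpoly.aeval, zero_mul, sub_eq_zero,
    Nat.card_eq_fintype_card] at h1
  rw [mem_rts hn]
  refine mul_right_cancel₀ h0 ?_
  rw [← pow_succ, Nat.sub_add_cancel (one_le_card_pow n), h1, one_mul]

theorem natDegree_dvd_of_nil {P : F[X]} (L : Type u) [Field L] [IsAlgClosed L] [Algebra F L]
    (hP : Irreducible P) (hmon : P.Monic) {T : Module.End F V} (h : IsNilpotent (aeval T P)) :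
    P.natDegree ∣ finrank F V := by
  obtain ⟨k, hk⟩ := charpoly_eq_pow L T hP hmon h
  rw [← LinearMap.charpoly_natDegree T, hk, natDegree_pow]
  exact dvd_mul_left _ _

theorem setP_unique [Nontrivial V] (L : Type u) [Field L] [IsAlgClosed L] [Algebra F L]
    {P P' : F[X]} (hP : Irreducible P) (hmon : P.Monic) (hP' : Irreducible P') (hmon' : P'.Monic)
    {T : Module.End F V} (h : IsNilpotent (aeval T P)) (h' : IsNilpotent (aeval T P')) : P = P' := by
  obtain ⟨k, hk⟩ := charpoly_eq_pow L T hP hmon h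
  obtain ⟨k', hk'⟩ := charpoly_eq_pow L T hP' hmon' h'
  have hd := LinearMap.charpoly_natDegree T
  have hpos : 0 < finrank F V := finrank_pos
  have hk0 : k ≠ 0 := by
    rintro rfl
    rw [hk, pow_zero, natDegree_one] at hd
    omega
  have : P ∣ P' ^ k' := by rw [← hk', hk]; exact dvd_pow_self P hk0
  exact eq_of_monic_of_associated hmon hmon'
    (hP.associated_of_dvd hP' (hP.prime.dvd_of_dvd_pow this))

variable (L)

/-- Sums over the group of functions supported on primary elements. -/
theorem sum_partition [Nontrivial V] (Φ : (V ≃ₗ[F] V) → ℂ)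
    (hΦ : ∀ g : V ≃ₗ[F] V, ∀ P : F[X], Irreducible P → P ∣ minpoly F g.toLinearMap →
      ¬ IsNilpotent (aeval g.toLinearMap P) → Φ g = 0) :
    ∑ g : V ≃ₗ[F] V, Φ g = ∑ x ∈ rts F L (finrank F V),
      ((minpoly F x).natDegree : ℂ)⁻¹ * ∑ g ∈ setP V (minpoly F x), Φ g := by
  have hn : 1 ≤ finrank F V := finrank_pos
  simp only [setP, Finset.sum_filter, Finset.mul_sum]
  rw [Finset.sum_comm]
  refine Finset.sum_congr rfl fun g _ => ?_
  obtain ⟨r, hr⟩ := Multiset.exists_mem_of_ne_zero (eig_ne_zero (L := L) g.toLinearMap)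
  have hrint : IsIntegral F r :=
    ⟨g.toLinearMap.charpoly, LinearMap.charpoly_monic _, by
      rw [← aeval_def]; exact mem_eig_aeval hr (LinearMap.aeval_self_charpoly _)⟩
  have hPi := minpoly.irreducible hrint
  have hPm := minpoly.monic hrint
  have hr0 : r ≠ 0 := fun e => zero_not_mem_eig g.injective (e ▸ hr)
  have hPdvd : minpoly F r ∣ minpoly F g.toLinearMap :=
    minpoly.dvd F r (mem_eig_aeval hr (minpoly.aeval F _))
  by_cases hnil : IsNilpotent (aeval g.toLinearMap (minpoly F r))
  swap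
  · rw [hΦ g _ hPi hPdvd hnil]
    simp
  have hdn : (minpoly F r).natDegree ∣ finrank F V := natDegree_dvd_of_nil L hPi hPm hnil
  have hroots : ((rts F L (finrank F V)).filter
      fun x => IsNilpotent (aeval g.toLinearMap (minpoly F x))) =
      ((minpoly F r).map (algebraMap F L)).roots.toFinset := by
    ext y
    rw [mem_filter, Multiset.mem_toFinset, mem_roots (hPm.map _).ne_zero, IsRoot, eval_map_algebraMap]
    constructor
    · rintro ⟨hy, hy'⟩
      have hyi := isIntegral_rts hn hy
      rw [setP_unique L hPi hPm (minpoly.irreducible hyi) (minpoly.monic hyi) hnil hy']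
      exact minpoly.aeval F y
    · intro hy
      have e : minpoly F r = minpoly F y := minpoly.eq_of_irreducible_of_monic hPi hy hPm
      have hyi : IsIntegral F y := ⟨_, hPm, hy⟩
      have hy0 : y ≠ 0 := by
        rintro rfl
        rw [minpoly.zero] at e
        exact hr0 (by simpa [e] using minpoly.aeval F r)
      exact ⟨mem_rts_of_dvd hyi hy0 hn (e ▸ hdn), e ▸ hnil⟩
  have hterm : ∀ x ∈ ((rts F L (finrank F V)).filter
      fun x => IsNilpotent (aeval g.toLinearMap (minpoly F x))),
      ((minpoly F x).natDegree : ℂ)⁻¹ * Φ g = ((minpoly F r).natDegree : ℂ)⁻¹ * Φ g := by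
    intro x hx
    rw [mem_filter] at hx
    have hxi := isIntegral_rts hn hx.1
    rw [setP_unique L hPi hPm (minpoly.irreducible hxi) (minpoly.monic hxi) hnil hx.2]
  rw [Finset.sum_congr rfl fun x _ => by rw [mul_ite, mul_zero], ← Finset.sum_filter,
    Finset.sum_congr rfl hterm, Finset.sum_const, hroots, Multiset.toFinset_card_of_nodup,
    IsAlgClosed.card_roots_eq_natDegree, hPm.natDegree_map, nsmul_eq_mul, ← mul_assoc,
    mul_inv_cancel₀ (Nat.cast_ne_zero.2 hPi.natDegree_pos.ne'), one_mul]
  exact nodup_roots (PerfectField.separable_of_irreducible hPi).map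

/-- Sums over the elements attached to one root of unity. -/
theorem sum_setP_rts [Nontrivial V] {x : L} (hx : x ∈ rts F L (finrank F V)) :
    ∃ (K : IntermediateField F L) (_ : Fintype K) (a : ℕ) (_ : Fintype (Nil K (Fin a → K))),
      1 ≤ a ∧ finrank F V = (minpoly F x).natDegree * a ∧ finrank F K = (minpoly F x).natDegree ∧
      Fintype.card K ^ a = Fintype.card F ^ finrank F V ∧
      ∀ Φ : ℤ → ℂ, (Nat.card ((Fin a → K) ≃ₗ[K] (Fin a → K)) : ℂ) *
        ∑ g ∈ setP V (minpoly F x), Φ (cDim g.toLinearMap) =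
        (Nat.card (V ≃ₗ[F] V) : ℂ) *
          ∑ N : Nil K (Fin a → K), Φ (((minpoly F x).natDegree : ℤ) * wt K (Fin a → K) N.1) := by
  have hn : 1 ≤ finrank F V := finrank_pos
  have hi := isIntegral_rts hn hx
  have hfr := IntermediateField.adjoin.finrank hi
  have : FiniteDimensional F (IntermediateField.adjoin F {x}) :=
    IntermediateField.adjoin.finiteDimensional hi
  have : Finite (IntermediateField.adjoin F {x}) := Module.finite_of_finite F
  have : Fintype (IntermediateField.adjoin F {x}) := Fintype.ofFinite _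
  obtain ⟨a, ha⟩ := natDegree_dvd_of_pow hi (pow_card_rts hn hx)
  have ha1 : 1 ≤ a := Nat.pos_of_ne_zero fun e => by rw [e, mul_zero] at ha; omega
  have : Finite (Module.End (IntermediateField.adjoin F {x}) (Fin a → IntermediateField.adjoin F {x})) :=
    Finite.of_injective _ DFunLike.coe_injective
  have hN : Fintype (Nil (IntermediateField.adjoin F {x}) (Fin a → IntermediateField.adjoin F {x})) :=
    Fintype.ofFinite _
  refine ⟨_, inferInstance, a, hN, ha1, ha, hfr, ?_, fun Φ => ?_⟩
  · rw [Module.card_eq_pow_finrank (K := F) (V := IntermediateField.adjoin F {x}), hfr, ← pow_mul, ← ha]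
  · set y := IntermediateField.AdjoinSimple.gen F x
    have hgen : Algebra.adjoin F {y} = ⊤ := by
      have := (IntermediateField.adjoin.powerBasis hi).adjoin_gen_eq_top
      simpa using this
    have hy0 : y ≠ 0 := fun e => rts_ne_zero hn hx (congrArg Subtype.val e)
    have : Nontrivial (Fin a → IntermediateField.adjoin F {x}) := by
      have : Nonempty (Fin a) := ⟨⟨0, by omega⟩⟩
      infer_instance
    have h := sum_setP (M := Fin a → IntermediateField.adjoin F {x}) (V := V) y hy0 hgen
      (by rw [hfr, Module.finrank_fin_fun]; exact ha) Φ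
    rw [IntermediateField.minpoly_gen F x, hfr] at h
    exact h

end Partition

/-- The total weight of the nilpotent endomorphisms. -/
theorem sum_nil_wt : ∀ (a : ℕ), 1 ≤ a → ∀ (K : Type u) [Field K] [Fintype K]
    [Fintype (Nil K (Fin a → K))],
    ((Fintype.card K : ℂ) ^ a - 1) * ∑ N : Nil K (Fin a → K), (wt K (Fin a → K) N.1 : ℂ) =
      (Nat.card ((Fin a → K) ≃ₗ[K] (Fin a → K)) : ℂ) := by
  intro n
  induction n using Nat.strong_induction_on with
  | _ n ih =>
  intro hn F _ _ _
  let V := Fin n → F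
  have : Finite (V ≃ₗ[F] V) := Finite.of_injective _ DFunLike.coe_injective
  have : Fintype (V ≃ₗ[F] V) := Fintype.ofFinite _
  have : Nonempty (Fin n) := ⟨⟨0, by omega⟩⟩
  let L := AlgebraicClosure F
  have hfin : finrank F V = n := Module.finrank_fin_fun F
  have h1 : ((Nat.card (V ≃ₗ[F] V) : ℤ) : ℂ) = ∑ g : V ≃ₗ[F] V, (cDim g.toLinearMap : ℂ) := by
    rw [← Int.cast_sum, sum_cDim]
  rw [sum_partition L (fun g => (cDim g.toLinearMap : ℂ)) (fun g P hP hd hnil => by
    simp [(cSum_esum_nonprimary (L := L) (fun _ => 1) g.toLinearMap hP hd hnil).2])] at h1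
  set B := ∑ N : Nil F (Fin n → F), (wt F (Fin n → F) N.1 : ℂ) with hB
  set G0 := (Nat.card (V ≃ₗ[F] V) : ℂ) with hG0
  have hG : G0 ≠ 0 := by rw [hG0]; exact_mod_cast Nat.card_pos.ne'
  set D := (Fintype.card F : ℂ) ^ n - 1 with hD
  have hD0 : D ≠ 0 := by
    rw [hD, sub_ne_zero]
    exact_mod_cast (Nat.one_lt_pow (by omega : n ≠ 0) (Fintype.one_lt_card (α := F))).ne'
  have hterm : ∀ x ∈ rts F L (finrank F V),
      ((minpoly F x).natDegree : ℂ)⁻¹ * ∑ g ∈ setP V (minpoly F x), (cDim g.toLinearMap : ℂ) =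
        if (minpoly F x).natDegree = 1 then B else G0 / D := by
    intro x hx
    have hi := isIntegral_rts (by omega) hx
    split_ifs with hd
    · obtain ⟨c, hc⟩ : x ∈ (algebraMap F L).range := (minpoly.natDegree_eq_one_iff).1 hd
      have hc0 : c ≠ 0 := fun e => rts_ne_zero (by omega) hx (by rw [← hc, e, map_zero])
      have hmp : minpoly F x = minpoly F c := by
        rw [← hc, minpoly.algebraMap_eq (algebraMap F L).injective]
      have hgen : Algebra.adjoin F {c} = ⊤ :=
        eq_top_iff.2 fun k _ => Subalgebra.algebraMap_mem _ k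
      have hs := sum_setP (M := Fin n → F) (K := F) (V := V) c hc0 hgen
        (by rw [Module.finrank_self, one_mul]) (fun z => (z : ℂ))
      simp only [Module.finrank_self, Nat.cast_one, one_mul] at hs
      rw [hd, Nat.cast_one, inv_one, one_mul, hmp, hB]
      exact mul_left_cancel₀ hG hs
    · obtain ⟨K, iK, a, iN, ha1, ha, hfr, hcard, hsum⟩ := sum_setP_rts L hx
      have halt : a < n := by
        have hpos : 0 < (minpoly F x).natDegree := (minpoly.irreducible hi).natDegree_pos
        have : 2 ≤ (minpoly F x).natDegree := by omega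
        rw [hfin] at ha
        nlinarith
      have hB' := @ih a halt ha1 K _ iK iN
      have hc : ((Fintype.card K : ℂ) ^ a - 1) = D := by
        rw [hD, ← Nat.cast_pow, hcard, hfin, Nat.cast_pow]
      rw [hc] at hB'
      have hs := hsum (fun z => (z : ℂ))
      simp only [Int.cast_mul, Int.cast_natCast, ← Finset.mul_sum] at hs
      have hd0 : ((minpoly F x).natDegree : ℂ) ≠ 0 :=
        Nat.cast_ne_zero.2 (minpoly.irreducible hi).natDegree_pos.ne'
      have hGL : (Nat.card ((Fin a → K) ≃ₗ[K] (Fin a → K)) : ℂ) ≠ 0 := by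
        have : Finite ((Fin a → K) ≃ₗ[K] (Fin a → K)) := Finite.of_injective _ DFunLike.coe_injective
        exact_mod_cast Nat.card_pos.ne'
      refine mul_left_cancel₀ hGL ?_
      rw [← hB'] at hs ⊢
      field_simp
      linear_combination hs
  rw [Finset.sum_congr rfl hterm, Finset.sum_ite, Finset.sum_const, Finset.sum_const, nsmul_eq_mul,
    nsmul_eq_mul, Int.cast_natCast, ← hG0] at h1
  set c := ((rts F L (finrank F V)).filter fun x => (minpoly F x).natDegree = 1).card
  have hc : 0 < c := Finset.card_pos.2 ⟨1, mem_filter.2 ⟨(mem_rts (by omega)).2 (one_pow _), by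
    rw [minpoly.one, ← C_1, natDegree_X_sub_C]⟩⟩
  have htot : c + ((rts F L (finrank F V)).filter fun x => ¬(minpoly F x).natDegree = 1).card =
      (rts F L (finrank F V)).card := Finset.card_filter_add_card_filter_not _
  have hcard : ((rts F L (finrank F V)).card : ℂ) = D := by
    rw [rts, hfin, hD]
    have hne : ((Fintype.card F ^ n - 1 : ℕ) : L) ≠ 0 := by
      rw [Nat.cast_sub (one_le_card_pow n), Nat.cast_pow, ← map_natCast (algebraMap F L),
        FiniteField.cast_card_eq_zero, map_zero, zero_pow (by omega)]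
      simp
    have : NeZero ((Fintype.card F ^ n - 1 : ℕ) : L) := ⟨hne⟩
    have : NeZero (Fintype.card F ^ n - 1) := ⟨fun e => hne (by rw [e]; simp)⟩
    obtain ⟨ζ, hζ⟩ := HasEnoughRootsOfUnity.exists_primitiveRoot L (Fintype.card F ^ n - 1)
    rw [hζ.card_nthRootsFinset, Nat.cast_sub (one_le_card_pow n), Nat.cast_pow, Nat.cast_one]
  rw [← htot, Nat.cast_add] at hcard
  refine mul_left_cancel₀ (Nat.cast_ne_zero.2 hc.ne' : (c : ℂ) ≠ 0) ?_
  have e : G0 / D * D = G0 := div_mul_cancel₀ _ hD0
  linear_combination (-D) * h1 - G0 * hcard + (((rts F L (finrank F V)).filter fun x =>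
    ¬(minpoly F x).natDegree = 1).card : ℂ) * (-e)

end Cfsg.Agent.GreenCusp
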