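import Cfsg.Agent.GreenCusp.Roots
import Cfsg.Agent.Char.Brauer

/-!
# Lifting eigenvalue sums to generalized characters
-/

set_option autoImplicit false
set_option linter.unusedSectionVars false
set_option linter.unusedVariables false

namespace Cfsg.Agent.GreenCusp

open Module Cfsg.Agent.Char
open scoped Classical

universe u v w

variable {L : Type w} [Field L] [IsAlgClosed L]

/-- A character of the multiplicative group, extended by zero. -/
noncomputable def ext0 (θ : Lˣ →* ℂˣ) : L → ℂ :=
  fun x => if h : x = 0 then 0 else (θ (Units.mk0 x h) : ℂ)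

theorem ext0_units (θ : Lˣ →* ℂˣ) (x : Lˣ) : ext0 θ (x : L) = (θ x : ℂ) := by
  rw [ext0, dif_neg x.ne_zero, Units.mk0_val]

theorem ext0_mul (θ : Lˣ →* ℂˣ) (a b : L) : ext0 θ (a * b) = ext0 θ a * ext0 θ b := by
  by_cases ha : a = 0
  · simp [ext0, ha]
  by_cases hb : b = 0
  · simp [ext0, hb]
  lift a to Lˣ using IsUnit.mk0 a ha
  lift b to Lˣ using IsUnit.mk0 b hb
  rw [← Units.val_mul, ext0_units, ext0_units, ext0_units, map_mul, Units.val_mul]

/-- `θ` is faithful on the roots of unity of order dividing `N`. -/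
def NonDeg (θ : Lˣ →* ℂˣ) (N : ℕ) : Prop := ∀ ζ : Lˣ, ζ ^ N = 1 → θ ζ = 1 → ζ = 1

theorem NonDeg.of_dvd {θ : Lˣ →* ℂˣ} {N N' : ℕ} (h : NonDeg θ N) (hd : N' ∣ N) : NonDeg θ N' :=
  fun ζ hζ => h ζ (by obtain ⟨c, rfl⟩ := hd; rw [pow_mul, hζ, one_pow])

section Step

variable {P : Type u} [Group P] [Fintype P] {V : Type v} [AddCommGroup V] [Module L V]
  [FiniteDimensional L V] (ρ : Representation L P V) (θ : Lˣ →* ℂˣ)

theorem esum_rep_conj (x g : P) : esum L (ext0 θ) (ρ (x * g * x⁻¹)) = esum L (ext0 θ) (ρ g) := by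
  let e : V ≃ₗ[L] V := LinearEquiv.ofLinearMap (ρ x) (ρ x⁻¹)
    (by rw [← Module.End.mul_eq_comp, ← map_mul, mul_inv_cancel, map_one]; rfl)
    (by rw [← Module.End.mul_eq_comp, ← map_mul, inv_mul_cancel, map_one]; rfl)
  rw [← esum_conj (ext0 θ) e (ρ g), map_mul, map_mul]
  rfl

/-- The imprimitive step. -/
theorem isCharacter_step (hθ : NonDeg θ (Nat.card P)) (hnt : Nontrivial V)
    (hirr : ∀ W : Submodule L V, (∀ g, ∀ x ∈ W, ρ g x ∈ W) → W = ⊥ ∨ W = ⊤)
    (a : P) (ζ : P →* Lˣ) (hζ : ∀ g, ρ g * ρ a = (ζ g : L) • (ρ a * ρ g)) (hne : ζ.ker ≠ ⊤)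
    (hrec : ∀ (W : Submodule L V) (σ : Representation L ζ.ker W),
      IsCharacter ζ.ker (fun b => esum L (ext0 θ) (σ b))) :
    IsCharacter P (fun g => esum L (ext0 θ) (ρ g)) := by
  obtain ⟨lam, hlam⟩ := Module.End.exists_eigenvalue (ρ a)
  have hinv : ∀ g x, ρ g⁻¹ (ρ g x) = x := fun g x => by
    rw [← Module.End.mul_apply, ← map_mul, inv_mul_cancel, map_one]; rfl
  have hinv' : ∀ g x, ρ g (ρ g⁻¹ x) = x := fun g x => by
    rw [← Module.End.mul_apply, ← map_mul, mul_inv_cancel, map_one]; rfl
  have hlam0 : lam ≠ 0 := by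
    rintro rfl
    obtain ⟨x, hx⟩ := hlam.exists_hasEigenvector
    exact hx.2 (by rw [← hinv a x, hx.apply_eq_smul, zero_smul, map_zero])
  let U : Lˣ → Submodule L V := fun c => Module.End.eigenspace (ρ a) ((c : L) * lam)
  have hmove : ∀ g c x, x ∈ U c → ρ g x ∈ U ((ζ g)⁻¹ * c) := by
    intro g c x hx
    rw [Module.End.mem_eigenspace_iff] at hx ⊢
    have h1 : (ρ g * ρ a) x = ((ζ g : L) • (ρ a * ρ g)) x := by rw [hζ]
    rw [Module.End.mul_apply, hx, map_smul, LinearMap.smul_apply, Module.End.mul_apply] at h1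
    rw [← one_smul L (ρ a (ρ g x)), ← Units.inv_mul (ζ g), ← smul_smul, ← h1, smul_smul]
    congr 1
    rw [Units.val_mul]; ring
  have hker : ∀ (b : ζ.ker) c, U c ≤ (U c).comap (ρ b) := fun b c x hx => by
    have := hmove b c x hx
    rwa [b.2, inv_one, one_mul] at this
  let Λ : Finset Lˣ := Finset.univ.image ζ
  have hinj : Function.Injective fun c : Lˣ => (c : L) * lam := fun c c' h =>
    Units.ext (mul_right_cancel₀ hlam0 h)
  have hind : iSupIndep U := (Module.End.eigenspaces_iSupIndep (ρ a)).comp hinj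
  have hΛinv : ∀ g c, c ∈ Λ → (ζ g)⁻¹ * c ∈ Λ := by
    intro g c hc
    obtain ⟨x, -, rfl⟩ := Finset.mem_image.1 hc
    exact Finset.mem_image.2 ⟨g⁻¹ * x, Finset.mem_univ _, by rw [map_mul, map_inv]⟩
  have htop : Λ.sup U = ⊤ := by
    refine (hirr _ fun g x hx => ?_).resolve_left fun h => ?_
    · have : Λ.sup U ≤ (Λ.sup U).comap (ρ g) := Finset.sup_le fun c hc y hy =>
        (Finset.le_sup (f := U) (hΛinv g c hc)) (hmove g c y hy)
      exact this hx
    · have h1 : U 1 ≤ ⊥ := h ▸ Finset.le_sup (f := U)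
        (Finset.mem_image.2 ⟨1, Finset.mem_univ _, map_one ζ⟩)
      refine hlam (le_bot_iff.1 ?_)
      simpa [U] using h1
  have hval : ∀ (b : ζ.ker) (s : Finset Lˣ), (s.sup U ≤ (s.sup U).comap (ρ b)) ∧
      esumOn L (ext0 θ) (ρ b) (s.sup U) = ∑ c ∈ s, esumOn L (ext0 θ) (ρ b) (U c) := by
    intro b s
    induction s using Finset.induction_on with
    | empty => exact ⟨by simp, by simp [esumOn_bot]⟩
    | insert c s hc ih =>
      have hd : Disjoint (U c) (s.sup U) := by
        have := hind.disjoint_biSup (x := c) (y := (s : Set Lˣ)) (by simpa using hc)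
        rwa [Finset.sup_eq_iSup]
      rw [Finset.sup_insert, Finset.sum_insert hc, esumOn_sup _ hd (hker b c) ih.1, ih.2]
      exact ⟨sup_le ((hker b c).trans (Submodule.comap_mono le_sup_left))
        (ih.1.trans (Submodule.comap_mono le_sup_right)), rfl⟩
  have hB : ζ.ker.Normal := inferInstance
  let σ : Representation L ζ.ker (U 1) :=
    { toFun := fun b => (ρ b).restrict (p := U 1) (q := U 1) fun x hx => hker b 1 hx
      map_one' := LinearMap.ext fun x => Subtype.ext (by
        rw [LinearMap.restrict_apply]; simp)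
      map_mul' := fun b b' => LinearMap.ext fun x => Subtype.ext (by
        rw [LinearMap.restrict_apply, Module.End.mul_apply, LinearMap.restrict_apply,
          LinearMap.restrict_apply]; simp) }
  have hχ := hrec (U 1) σ
  have hf : (fun g => esum L (ext0 θ) (ρ g)) = indFun ζ.ker (fun b => esum L (ext0 θ) (σ b)) := by
    funext g
    by_cases hg : g ∈ ζ.ker
    · lift g to ζ.ker using hg
      rw [indFun_apply_coe_of_normal]
      have hconj : ∀ x : P, esum L (ext0 θ) (σ ⟨x⁻¹ * (g : P) * x, by
          simpa using hB.conj_mem (g : P) g.2 x⁻¹⟩) = esumOn L (ext0 θ) (ρ g) (U (ζ x)⁻¹) := by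
        intro x
        have hm : ∀ y ∈ U 1, ρ x y ∈ U (ζ x)⁻¹ := fun y hy => by
          have := hmove x 1 y hy; rwa [mul_one] at this
        have hm' : ∀ y ∈ U (ζ x)⁻¹, ρ x⁻¹ y ∈ U 1 := fun y hy => by
          have := hmove x⁻¹ _ y hy; rwa [map_inv, inv_inv, mul_inv_cancel] at this
        let e : U 1 ≃ₗ[L] U (ζ x)⁻¹ := LinearEquiv.ofLinearMap
          ((ρ x).restrict (p := U 1) (q := U (ζ x)⁻¹) hm)
          ((ρ x⁻¹).restrict (p := U (ζ x)⁻¹) (q := U 1) hm')
          (LinearMap.ext fun y => Subtype.ext (hinv' x y))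
          (LinearMap.ext fun y => Subtype.ext (hinv x y))
        rw [esumOn_of_inv _ (hker g _), ← esum_conj (ext0 θ) e (σ _)]
        congr 1
        refine LinearMap.ext fun y => Subtype.ext ?_
        show ρ x (ρ (x⁻¹ * (g : P) * x) (ρ x⁻¹ y)) = ρ g y
        rw [map_mul, map_mul]
        simp only [Module.End.mul_apply]
        rw [hinv', hinv']
      simp only [hconj]
      have hsum : ∑ x : P, esumOn L (ext0 θ) (ρ g) (U (ζ x)⁻¹) =
          ∑ c ∈ Λ, (Nat.card ζ.ker : ℂ) * esumOn L (ext0 θ) (ρ g) (U c) := by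
        rw [show ∑ x : P, esumOn L (ext0 θ) (ρ g) (U (ζ x)⁻¹) =
            ∑ x : P, esumOn L (ext0 θ) (ρ g) (U (ζ x)) from
          Fintype.sum_equiv (Equiv.inv P) _ _ fun x => by simp]
        rw [← Finset.sum_fiberwise_of_maps_to (t := Λ) (g := ζ) (fun x _ => Finset.mem_image_of_mem _ (Finset.mem_univ x))]
        refine Finset.sum_congr rfl fun c hc => ?_
        rw [Finset.sum_congr rfl fun x hx => by rw [(Finset.mem_filter.1 hx).2], Finset.sum_const,
          nsmul_eq_mul, ← Fintype.card_subtype, Nat.card_eq_fintype_card]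
        congr 2
        obtain ⟨x₀, -, rfl⟩ := Finset.mem_image.1 hc
        exact Fintype.card_congr
          { toFun := fun x => (⟨x₀⁻¹ * x.1, by simp [MonoidHom.mem_ker, x.2]⟩ : ζ.ker)
            invFun := fun b => ⟨x₀ * b.1, by simp [MonoidHom.mem_ker.1 b.2]⟩
            left_inv := fun x => Subtype.ext (mul_inv_cancel_left _ _)
            right_inv := fun b => Subtype.ext (inv_mul_cancel_left _ _) }
      rw [hsum, ← Finset.mul_sum, ← (hval g Λ).2, htop, esumOn_top, ← mul_assoc,
        inv_mul_cancel₀ (by exact_mod_cast Nat.card_pos.ne'), one_mul]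
    · rw [indFun_apply_eq_zero]
      swap
      · intro x hx
        exact hg (by simpa [mul_assoc] using hB.conj_mem _ hx x)
      have h1 : ρ g * ρ a = (ζ g : L) • (ρ a * ρ g) := hζ g
      have h2 : ρ (a⁻¹ * g * a⁻¹⁻¹) = (ζ g : L) • ρ g := by
        rw [inv_inv, map_mul, map_mul, mul_assoc, h1, mul_smul_comm, ← mul_assoc, ← map_mul,
          inv_mul_cancel, map_one, one_mul]
      have h3 := esum_rep_conj ρ θ a⁻¹ g
      rw [h2, esum_smul _ (ext0_mul θ) _ (ζ g).ne_zero, ext0_units] at h3
      have hpow : ζ g ^ Nat.card P = 1 := by rw [← map_pow, pow_card_eq_one', map_one]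
      have h4 : θ (ζ g) ≠ 1 := fun e => hg (hθ _ hpow e)
      have h5 : ((θ (ζ g) : ℂ) - 1) * esum L (ext0 θ) (ρ g) = 0 := by linear_combination h3
      exact (mul_eq_zero.1 h5).resolve_left fun e => h4 (Units.ext (sub_eq_zero.1 e))
  rw [hf]
  exact isCharacter_indFun ζ.ker hχ

end Step

/-- Eigenvalue sums of representations of nilpotent groups are characters. -/
theorem isCharacter_esum_nilpotent (θ : Lˣ →* ℂˣ) : ∀ (N : ℕ) (P : Type u) [Group P] [Finite P],
    Nat.card P ≤ N → Group.IsNilpotent P → NonDeg θ (Nat.card P) → ∀ (V : Type v) [AddCommGroup V]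
      [Module L V] [FiniteDimensional L V] (ρ : Representation L P V),
      IsCharacter P (fun g => esum L (ext0 θ) (ρ g)) := by
  intro N
  induction N with
  | zero => intro P _ _ h; exact absurd h (by have := Nat.card_pos (α := P); omega)
  | succ N ih =>
    intro P _ _ hN hnil hθ V _ _ _ ρ
    have := Fintype.ofFinite P
    induction hd : finrank L V using Nat.strong_induction_on generalizing V with
    | _ d ihd =>
    subst hd
    rcases subsingleton_or_nontrivial V with hV | hV
    · have : (fun g => esum L (ext0 θ) (ρ g)) = (0 : P → ℂ) := by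
        funext g; rw [esum, eig_subsingleton]; rfl
      rw [this]; exact isCharacter_zero
    by_cases hirr : ∀ W : Submodule L V, (∀ g, ∀ x ∈ W, ρ g x ∈ W) → W = ⊥ ∨ W = ⊤
    swap
    · push Not at hirr
      obtain ⟨W, hW, hbot, htop⟩ := hirr
      let ρ₁ : Representation L P W :=
        { toFun := fun g => (ρ g).restrict (p := W) (q := W) (hW g)
          map_one' := LinearMap.ext fun x => Subtype.ext (by rw [LinearMap.restrict_apply]; simp)
          map_mul' := fun g h => LinearMap.ext fun x => Subtype.ext (by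
            rw [LinearMap.restrict_apply, Module.End.mul_apply, LinearMap.restrict_apply,
              LinearMap.restrict_apply]; simp) }
      let ρ₂ : Representation L P (V ⧸ W) :=
        { toFun := fun g => W.mapQ W (ρ g) (hW g)
          map_one' := Submodule.linearMap_qext _ (LinearMap.ext fun x => by simp)
          map_mul' := fun g h => Submodule.linearMap_qext _ (LinearMap.ext fun x => by simp) }
      have e : (fun g => esum L (ext0 θ) (ρ g)) =
          (fun g => esum L (ext0 θ) (ρ₁ g)) + (fun g => esum L (ext0 θ) (ρ₂ g)) := by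
        funext g; exact esum_split _ (ρ g) W (hW g)
      rw [e]
      have h1 := Submodule.finrank_lt htop
      have h2 := Submodule.finrank_quotient_add_finrank W
      have h3 : 0 < finrank L W :=
        Nat.pos_of_ne_zero fun h => hbot (Submodule.finrank_eq_zero.1 h)
      exact isCharacter_add (ihd _ h1 W ρ₁ rfl) (ihd _ (by omega) (V ⧸ W) ρ₂ rfl)
    by_cases hfaith : ρ.ker = ⊥
    swap
    · have hlt : Nat.card (P ⧸ ρ.ker) < Nat.card P := by
        have h1 := Subgroup.card_eq_card_quotient_mul_card_subgroup ρ.ker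
        have h2 : 1 < Nat.card ρ.ker := Subgroup.one_lt_card_iff_ne_bot _ |>.2 hfaith
        have h3 := Nat.card_pos (α := P ⧸ ρ.ker)
        nlinarith
      let ρ' : Representation L (P ⧸ ρ.ker) V := QuotientGroup.lift ρ.ker ρ le_rfl
      have := ih (P ⧸ ρ.ker) (by omega) inferInstance
        (hθ.of_dvd (Subgroup.card_quotient_dvd_card _)) V ρ'
      exact isCharacter_comp (QuotientGroup.mk' ρ.ker) this
    have hinj : ∀ g, ρ g = 1 → g = 1 := fun g hg => by
      have : g ∈ ρ.ker := hg
      rwa [hfaith, Subgroup.mem_bot] at this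
    have hscal : ∀ c : P, (∀ g, c * g = g * c) → ∃ s : Lˣ, ρ c = (s : L) • 1 := by
      intro c hc
      obtain ⟨l, hl⟩ := Module.End.exists_eigenvalue (ρ c)
      have htop := (hirr (Module.End.eigenspace (ρ c) l) fun g x hx => by
        rw [Module.End.mem_eigenspace_iff] at hx ⊢
        rw [← Module.End.mul_apply, ← map_mul, hc g, map_mul, Module.End.mul_apply, hx, map_smul]
        ).resolve_left hl
      have h1 : ρ c = l • 1 := LinearMap.ext fun x => by
        have : x ∈ Module.End.eigenspace (ρ c) l := htop ▸ Submodule.mem_top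
        rw [Module.End.mem_eigenspace_iff] at this
        rw [this]; rfl
      have hl0 : l ≠ 0 := fun e => by
        obtain ⟨x, hx⟩ := exists_ne (0 : V)
        apply hx
        have : ρ c⁻¹ (ρ c x) = x := by
          rw [← Module.End.mul_apply, ← map_mul, inv_mul_cancel, map_one]; rfl
        rw [← this, h1, e, zero_smul, LinearMap.zero_apply, map_zero]
      exact ⟨Units.mk0 l hl0, h1⟩
    obtain ⟨x₀, hx₀⟩ := exists_ne (0 : V)
    have huniq : ∀ {s t : L} {T : Module.End L V}, (∃ T' : Module.End L V, T' * T = 1) →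
        s • T = t • T → s = t := by
      rintro s t T ⟨T', hT'⟩ h
      have h1 : T' * (s • T) = T' * (t • T) := by rw [h]
      rw [mul_smul_comm, mul_smul_comm, hT'] at h1
      have h2 : s • x₀ = t • x₀ := by
        have := LinearMap.congr_fun h1 x₀
        simpa using this
      exact smul_left_injective L hx₀ h2
    by_cases hab : ∀ g h : P, g * h = h * g
    · have hdim : finrank L V = 1 := by
        rw [← finrank_span_singleton (K := L) hx₀]
        have htop := (hirr (L ∙ x₀) fun g x hx => by
          obtain ⟨s, hs⟩ := hscal g (hab g)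
          rw [hs]; exact Submodule.smul_mem _ _ hx).resolve_left (by simp [hx₀])
        rw [htop, finrank_top]
      choose s hs using fun g => hscal g (hab g)
      have hmul : ∀ g h, s (g * h) = s g * s h := fun g h => Units.ext (huniq (T := 1) ⟨1, one_mul _⟩ (by
        rw [← hs, map_mul, hs, hs, Units.val_mul, smul_mul_smul_comm, one_mul]))
      have e : (fun g => esum L (ext0 θ) (ρ g)) =
          fun g => ((θ.comp (MonoidHom.mk' s hmul)) g : ℂ) := by
        funext g
        rw [hs g, esum, eig_smul_one _ hdim, Multiset.map_singleton, Multiset.sum_singleton, ext0_units]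
        rfl
      rw [e]; exact isCharacter_hom _
    push Not at hab
    have hZ : Subgroup.center P ≠ ⊤ := fun e => by
      obtain ⟨g, h, hgh⟩ := hab
      exact hgh (Subgroup.mem_center_iff.1 (e ▸ Subgroup.mem_top h) g)
    have hnt : Nontrivial (P ⧸ Subgroup.center P) := QuotientGroup.nontrivial_iff.2 hZ
    have hnc : Nontrivial (Subgroup.center (P ⧸ Subgroup.center P)) :=
      (Subgroup.nontrivial_iff_ne_bot _).2 (Group.IsNilpotent.center_ne_bot _)
    obtain ⟨⟨abar, habar⟩, hane⟩ := exists_ne (1 : Subgroup.center (P ⧸ Subgroup.center P))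
    obtain ⟨a, rfl⟩ := QuotientGroup.mk_surjective abar
    have haZ : a ∉ Subgroup.center P := fun h => hane (Subtype.ext ((QuotientGroup.eq_one_iff a).2 h))
    have hcomm : ∀ g : P, g * a * g⁻¹ * a⁻¹ ∈ Subgroup.center P := fun g => by
      rw [← QuotientGroup.eq_one_iff]
      have := Subgroup.mem_center_iff.1 habar (g : P ⧸ Subgroup.center P)
      rw [QuotientGroup.mk_mul, QuotientGroup.mk_mul, QuotientGroup.mk_mul, this, QuotientGroup.mk_inv,
        QuotientGroup.mk_inv]
      group
    choose s hs using fun g => hscal _ (fun h => (Subgroup.mem_center_iff.1 (hcomm g) h).symm)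
    have hz : ∀ g, ρ g * ρ a = (s g : L) • (ρ a * ρ g) := by
      intro g
      rw [← map_mul, ← map_mul, show g * a = (g * a * g⁻¹ * a⁻¹) * (a * g) from by group,
        map_mul ρ (g * a * g⁻¹ * a⁻¹), hs g, smul_mul_assoc, one_mul]
    have hmul : ∀ g h, s (g * h) = s g * s h := fun g h => Units.ext (huniq (T := ρ a * ρ (g * h))
      ⟨ρ (a * (g * h))⁻¹, by rw [← map_mul, ← map_mul, inv_mul_cancel, map_one]⟩ (by
        rw [← hz, map_mul, mul_assoc, hz h, mul_smul_comm, ← mul_assoc, hz g, smul_mul_assoc, smul_smul,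
          mul_assoc, Units.val_mul, mul_comm (s h : L)]))
    have hne : (MonoidHom.mk' s hmul).ker ≠ ⊤ := fun e => haZ (Subgroup.mem_center_iff.2 fun g => by
      have h1 : s g = 1 := (e ▸ Subgroup.mem_top g : g ∈ (MonoidHom.mk' s hmul).ker)
      have h2 := hz g
      rw [h1, Units.val_one, one_smul, ← map_mul, ← map_mul] at h2
      have h3 : ρ ((g * a)⁻¹ * (a * g)) = 1 := by
        rw [map_mul, ← h2, ← map_mul, inv_mul_cancel, map_one]
      exact (inv_mul_eq_one.1 (hinj _ h3)))
    refine isCharacter_step ρ θ hθ hV hirr a (MonoidHom.mk' s hmul) hz hne fun W σ => ?_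
    have hlt : Nat.card (MonoidHom.mk' s hmul).ker < Nat.card P := by
      refine lt_of_le_of_ne (Subgroup.card_le_card_group _) fun e => hne (Subgroup.eq_top_of_card_eq _ e)
    exact ih _ (by omega) inferInstance (hθ.of_dvd (Subgroup.card_subgroup_dvd_card _)) W σ

/-- Eigenvalue sums of representations over an algebraically closed field are generalized characters. -/
theorem isGeneralized_esum {G : Type u} [Group G] [Finite G] {V : Type v} [AddCommGroup V] [Module L V]
    [FiniteDimensional L V] (θ : Lˣ →* ℂˣ) (hθ : NonDeg θ (Nat.card G)) (ρ : Representation L G V) :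
    IsGeneralizedCharacter G (fun g => esum L (ext0 θ) (ρ g)) := by
  have := Fintype.ofFinite G
  refine isGeneralized_of_elementary (fun g x => esum_rep_conj ρ θ x g) fun E p hp hE => ?_
  exact isGeneralized_of_isCharacter (isCharacter_esum_nilpotent θ (Nat.card E) E le_rfl
    (IsElementary.isNilpotent hp hE) (hθ.of_dvd (Subgroup.card_subgroup_dvd_card E)) V
    (ρ.comp E.subtype))

/-- Eigenvalue sums of representations over a subfield. -/
theorem isGeneralized_esum_base {F : Type*} [Field F] [Algebra F L] {G : Type u} [Group G] [Finite G]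
    {V : Type v} [AddCommGroup V] [Module F V] [FiniteDimensional F V] (θ : Lˣ →* ℂˣ)
    (hθ : NonDeg θ (Nat.card G)) (ρ : Representation F G V) :
    IsGeneralizedCharacter G (fun g => esum L (ext0 θ) (ρ g)) := by
  set b := Module.finBasis F V
  let ρL : Representation L G (Fin (finrank F V) → L) :=
    (Matrix.toLinAlgEquiv' (R := L) (n := Fin (finrank F V))).toMonoidHom.comp
      (((Algebra.ofId F L).mapMatrix (m := Fin (finrank F V))).toMonoidHom.comp
        ((LinearMap.toMatrixAlgEquiv b).toMonoidHom.comp ρ))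
  have e : ∀ g, esum L (ext0 θ) (ρ g) = esum L (ext0 θ) (ρL g) := by
    intro g
    rw [esum, esum, eig, eig]
    congr 3
    show _ = Polynomial.map _ (Matrix.toLin' ((LinearMap.toMatrix b b (ρ g)).map (algebraMap F L))).charpoly
    rw [Matrix.charpoly_toLin', Matrix.charpoly_map, LinearMap.charpoly_toMatrix, Algebra.algebraMap_self,
      Polynomial.map_id]
  simp only [e]
  exact isGeneralized_esum θ hθ ρL

end Cfsg.Agent.GreenCusp
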