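import Cfsg.Agent.GreenCusp.Lattice
import Cfsg.Agent.GreenCusp.Lift

/-!
# Generalized characters from fixed points on invariant lattices
-/

set_option autoImplicit false
set_option linter.unusedSectionVars false
set_option linter.unusedVariables false

namespace Cfsg.Agent.GreenCusp

open Module Cfsg.Agent.Char
open Cfsg.Agent.SteinbergGL (mob mob_orderIso)
open scoped Classical

universe u v w

section GSet

variable {G : Type u} [Group G] [Fintype G] {X : Type v} (act : G →* Equiv.Perm X)

/-- The stabilizer of a point. -/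
def fixSub (x : X) : Subgroup G where
  carrier := {g | act g x = x}
  mul_mem' := fun {a b} ha hb => by
    show act (a * b) x = x
    rw [map_mul, Equiv.Perm.mul_apply, hb, ha]
  one_mem' := by show act 1 x = x; rw [map_one, Equiv.Perm.one_apply]
  inv_mem' := fun {a} ha => by
    show act a⁻¹ x = x
    rw [map_inv, Equiv.Perm.inv_eq_iff_eq, ha]

theorem mem_fixSub {x : X} {g : G} : g ∈ fixSub act x ↔ act g x = x := Iff.rfl

/-- Sums over fixed points of compatible generalized characters of stabilizers. -/
theorem isGeneralized_fixedSum (s : Finset X) (hs : ∀ g, ∀ x ∈ s, act g x ∈ s) (φ : X → G → ℂ)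
    (heq : ∀ k x g, φ (act k x) (k * g * k⁻¹) = φ x g)
    (hgen : ∀ x ∈ s, IsGeneralizedCharacter (fixSub act x) (fun g => φ x g)) :
    IsGeneralizedCharacter G (fun g => ∑ x ∈ s, if act g x = x then φ x g else 0) := by
  rw [isGeneralized_iff]
  refine ⟨fun g k => ?_, fun ψ => ?_⟩
  · refine (Finset.sum_equiv (act k) (fun x => ⟨hs k x, fun h => ?_⟩) fun x _ => ?_).symm
    · have := hs k⁻¹ _ h
      rwa [map_inv, Equiv.Perm.inv_def, Equiv.symm_apply_apply] at this
    · have e : act (k * g * k⁻¹) (act k x) = act k (act g x) := by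
        rw [← Equiv.Perm.mul_apply, ← map_mul, inv_mul_cancel_right, map_mul, Equiv.Perm.mul_apply]
      rw [e, heq]
      by_cases h : act g x = x
      · rw [if_pos h, if_pos (by rw [h])]
      · rw [if_neg h, if_neg fun h' => h ((act k).injective h')]
  · let k : X → ℂ := fun x => ∑ g : G, if act g x = x then φ x g * (starRingEnd ℂ) (ψ.1 g) else 0
    have hkinv : ∀ h x, k (act h x) = k x := by
      intro h x
      refine (Fintype.sum_equiv (MulAut.conj h).toEquiv _ _ fun g => ?_).symm
      show _ = if act (h * g * h⁻¹) (act h x) = act h x then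
        φ (act h x) (h * g * h⁻¹) * (starRingEnd ℂ) (ψ.1 (h * g * h⁻¹)) else 0
      have e : act (h * g * h⁻¹) (act h x) = act h (act g x) := by
        rw [← Equiv.Perm.mul_apply, ← map_mul, inv_mul_cancel_right, map_mul, Equiv.Perm.mul_apply]
      rw [e, heq, isClassFunction_of_isCharacter (IsIrr.isCharacter ψ.2) g h]
      simp only [(act h).injective.eq_iff]
    let orb : X → Set X := fun x => Set.range fun g => act g x
    have hk : ∀ x ∈ s, ∃ m : ℤ, k x = (Nat.card (fixSub act x) : ℂ) * m := by
      intro x hx
      have hψ : IsGeneralizedCharacter (fixSub act x) (fun g => ψ.1 g) :=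
        isGeneralized_comp (fixSub act x).subtype (isGeneralized_of_isCharacter (IsIrr.isCharacter ψ.2))
      obtain ⟨m, hm⟩ := classInner_generalized_int (hgen x hx) hψ
      refine ⟨m, ?_⟩
      rw [← hm, classInner, ← mul_assoc, mul_inv_cancel₀ (by exact_mod_cast Nat.card_pos.ne'), one_mul]
      show ∑ g : G, (if act g x = x then φ x g * (starRingEnd ℂ) (ψ.1 g) else 0) = _
      rw [← Finset.sum_filter, Finset.sum_subtype (p := fun g => g ∈ fixSub act x)
        (Finset.univ.filter fun g => act g x = x) (fun g => by simp [mem_fixSub])]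
    have hinner : classInner (fun g => ∑ x ∈ s, if act g x = x then φ x g else 0) ψ.1 =
        (Nat.card G : ℂ)⁻¹ * ∑ x ∈ s, k x := by
      rw [classInner]
      simp only [k]
      rw [Finset.sum_comm]
      congr 1
      refine Finset.sum_congr rfl fun g _ => ?_
      rw [Finset.sum_mul]
      refine Finset.sum_congr rfl fun x _ => ?_
      split_ifs <;> simp
    rw [hinner, ← Finset.sum_fiberwise_of_maps_to (t := s.image orb) (g := orb)
      (fun x hx => Finset.mem_image_of_mem orb hx), Finset.mul_sum]
    refine Finset.sum_induction _ (fun z : ℂ => ∃ m : ℤ, z = m)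
      (fun a b ⟨m, hm⟩ ⟨n, hn⟩ => ⟨m + n, by rw [hm, hn, Int.cast_add]⟩) ⟨0, by simp⟩ fun O hO => ?_
    obtain ⟨x, hx, rfl⟩ := Finset.mem_image.1 hO
    obtain ⟨m, hm⟩ := hk x hx
    refine ⟨m, ?_⟩
    have hfil : s.filter (fun y => orb y = orb x) = Finset.univ.image (fun g => act g x) := by
      ext y
      simp only [Finset.mem_filter, Finset.mem_image, Finset.mem_univ, true_and]
      constructor
      · rintro ⟨-, hy⟩
        have : y ∈ orb y := ⟨1, by simp⟩
        rw [hy] at this
        exact this
      · rintro ⟨g, rfl⟩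
        refine ⟨hs g x hx, ?_⟩
        ext z
        simp only [orb, Set.mem_range]
        constructor
        · rintro ⟨h, rfl⟩; exact ⟨h * g, by rw [map_mul]; rfl⟩
        · rintro ⟨h, rfl⟩; exact ⟨h * g⁻¹, by
            rw [← Equiv.Perm.mul_apply, ← map_mul, inv_mul_cancel_right]⟩
    rw [hfil, Finset.sum_congr rfl fun y hy => show k y = k x by
      obtain ⟨g, -, rfl⟩ := Finset.mem_image.1 hy; exact hkinv g x, Finset.sum_const, nsmul_eq_mul, hm]
    have hcard : (Finset.univ.image fun g => act g x).card * Nat.card (fixSub act x) = Nat.card G := by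
      let _ : MulAction G X := MulAction.compHom X act
      have : Fintype (MulAction.orbit G x) := (Set.finite_range _).fintype
      have hst : MulAction.stabilizer G x = fixSub act x := by ext g; rfl
      have hc := MulAction.card_orbit_mul_card_stabilizer_eq_card_group G x
      rw [Nat.card_eq_fintype_card (α := G), ← hc, ← hst, Nat.card_eq_fintype_card]
      congr 1
      rw [← Set.toFinset_card]
      congr 1
      ext y
      simp [MulAction.mem_orbit_iff]
      rfl
    rw [← mul_assoc _ (Nat.card (fixSub act x) : ℂ), ← Nat.cast_mul, hcard, ← mul_assoc,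
      inv_mul_cancel₀ (by exact_mod_cast Nat.card_pos.ne'), one_mul]

end GSet

section Mu

variable {F : Type u} [Field F] {V : Type v} [AddCommGroup V] [Module F V] [Finite V]

theorem mu_conj {V' : Type v} [AddCommGroup V'] [Module F V'] [Finite V'] (e : V ≃ₗ[F] V')
    (T : Module.End F V) (W : Submodule F V) :
    mu (e.conj T) (W.map e.toLinearMap) = mu T W := by
  have key : ∀ U : Submodule F V,
      U ≤ U.comap T ↔ U.map e.toLinearMap ≤ (U.map e.toLinearMap).comap (e.conj T) := by
    intro U
    constructor
    · rintro h _ ⟨x, hx, rfl⟩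
      exact ⟨T x, h hx, by simp [LinearEquiv.conj_apply_apply]⟩
    · intro h x hx
      obtain ⟨y, hy, hy'⟩ := h ⟨x, hx, rfl⟩
      simp only [LinearEquiv.coe_coe, LinearEquiv.conj_apply_apply,
        LinearEquiv.symm_apply_apply] at hy'
      show T x ∈ U
      rw [← e.injective hy']
      exact hy
  by_cases hW : W ≤ W.comap T
  · rw [mu_of_inv hW, mu_of_inv ((key W).1 hW)]
    let i : InvSub T ≃o InvSub (e.conj T) :=
      { toEquiv := (Submodule.orderIsoMapComap e).toEquiv.subtypeEquiv key
        map_rel_iff' := fun {a b} => (Submodule.orderIsoMapComap e).le_iff_le }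
    exact mob_orderIso i ⟨W, hW⟩
  · rw [mu_of_not hW, mu_of_not fun h => hW ((key W).2 h)]

theorem esumOn_conj {L : Type w} [Field L] [IsAlgClosed L] [Algebra F L] [FiniteDimensional F V]
    {V' : Type v} [AddCommGroup V'] [Module F V'] [FiniteDimensional F V'] (f : L → ℂ)
    (e : V ≃ₗ[F] V') {T : Module.End F V} {W : Submodule F V} (hW : W ≤ W.comap T) :
    esumOn L f (e.conj T) (W.map e.toLinearMap) = esumOn L f T W := by
  have h' : W.map e.toLinearMap ≤ (W.map e.toLinearMap).comap (e.conj T) := by
    rintro _ ⟨x, hx, rfl⟩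
    exact ⟨T x, hW hx, by simp [LinearEquiv.conj_apply_apply]⟩
  rw [esumOn_of_inv f hW, esumOn_of_inv f h', ← esum_conj f (e.submoduleMap W)]
  congr 1

/-- The action of linear automorphisms on subspaces. -/
def subPerm : (V ≃ₗ[F] V) →* Equiv.Perm (Submodule F V) where
  toFun g := (Submodule.orderIsoMapComap g).toEquiv
  map_one' := Equiv.ext fun W => Submodule.map_id W
  map_mul' g h := Equiv.ext fun W => (Submodule.map_comp _ _ _)

theorem subPerm_apply (g : V ≃ₗ[F] V) (W : Submodule F V) : subPerm g W = W.map g.toLinearMap := rfl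

theorem map_eq_iff_inv (g : V ≃ₗ[F] V) (W : Submodule F V) :
    subPerm g W = W ↔ W ≤ W.comap g.toLinearMap := by
  rw [subPerm_apply]
  refine ⟨fun h => Submodule.map_le_iff_le_comap.1 h.le, fun h => ?_⟩
  have : FiniteDimensional F V := Module.Finite.of_finite
  exact Submodule.eq_of_le_of_finrank_eq (Submodule.map_le_iff_le_comap.2 h)
    (LinearEquiv.finrank_map_eq g W)

local instance : Finite (V ≃ₗ[F] V) := Finite.of_injective _ DFunLike.coe_injective

theorem conj_toLinearMap (k g : V ≃ₗ[F] V) :
    (k * g * k⁻¹).toLinearMap = k.conj g.toLinearMap := LinearMap.ext fun x => rfl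

theorem isGeneralized_mu (W : Submodule F V) :
    IsGeneralizedCharacter (fixSub subPerm W)
      (fun g => (mu (g : V ≃ₗ[F] V).toLinearMap W : ℂ)) := by
  induction W using WellFoundedGT.induction with
  | ind W ih =>
    by_cases hW : W = ⊤
    · subst hW
      refine isGeneralized_of_isCharacter ?_
      simp only [mu_top, Int.cast_one]
      simpa using isCharacter_hom (1 : fixSub (subPerm (F := F) (V := V)) ⊤ →* ℂˣ)
    · have : Fintype (Submodule F V) := Fintype.ofFinite _
      have : Fintype (fixSub (subPerm (F := F) (V := V)) W) := Fintype.ofFinite _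
      let act' := (subPerm (F := F) (V := V)).comp (fixSub subPerm W).subtype
      let s : Finset (Submodule F V) := Finset.univ.filter (W < ·)
      have key := isGeneralized_fixedSum act' s (fun g U hU => ?_)
        (fun U g => (mu (g : V ≃ₗ[F] V).toLinearMap U : ℂ)) (fun k U g => ?_) (fun U hU => ?_)
      · have e : (fun g : fixSub subPerm W => (mu (g : V ≃ₗ[F] V).toLinearMap W : ℂ)) =
            -fun g => ∑ U ∈ s, if act' g U = U then (mu (g : V ≃ₗ[F] V).toLinearMap U : ℂ) else 0 := by
          funext g
          rw [mu_rec ((map_eq_iff_inv _ W).1 g.2) hW, Pi.neg_apply]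
          push_cast
          congr 1
          refine Finset.sum_congr (by ext; simp [s]) fun U _ => ?_
          split_ifs with h
          · rfl
          · rw [mu_of_not fun h' => h ((map_eq_iff_inv (g : V ≃ₗ[F] V) U).2 h'), Int.cast_zero]
        rw [e]
        exact isGeneralized_neg key
      · simp only [s, Finset.mem_filter, Finset.mem_univ, true_and] at hU ⊢
        exact lt_of_eq_of_lt g.2.symm ((Submodule.orderIsoMapComap (g : V ≃ₗ[F] V)).strictMono hU)
      · simp only [MonoidHom.coe_comp, Function.comp_apply, act', subPerm_apply, Subgroup.coe_subtype]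
        push_cast
        rw [conj_toLinearMap, mu_conj]
      · simp only [s, Finset.mem_filter, Finset.mem_univ, true_and] at hU
        exact isGeneralized_comp
          (((fixSub subPerm W).subtype.comp (fixSub act' U).subtype).codRestrict (fixSub subPerm U)
            (fun g => g.2)) (ih U hU)

variable {L : Type w} [Field L] [IsAlgClosed L] [Algebra F L]

/-- The basic class function. -/
noncomputable def chi0 (θ : Lˣ →* ℂˣ) (g : V ≃ₗ[F] V) : ℂ :=
  cSum g.toLinearMap (esumOn L (ext0 θ) g.toLinearMap)

/-- It is a generalized character. -/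
theorem isGeneralized_chi0 [Fintype (V ≃ₗ[F] V)] (θ : Lˣ →* ℂˣ)
    (hθ : NonDeg θ (Nat.card (V ≃ₗ[F] V))) :
    IsGeneralizedCharacter (V ≃ₗ[F] V) (chi0 θ : (V ≃ₗ[F] V) → ℂ) := by
  have : FiniteDimensional F V := Module.Finite.of_finite
  have : Fintype (Submodule F V) := Fintype.ofFinite _
  have key := isGeneralized_fixedSum (subPerm (F := F) (V := V)) Finset.univ
    (fun g x _ => Finset.mem_univ _)
    (fun W g => (mu g.toLinearMap W : ℂ) * esumOn L (ext0 θ) g.toLinearMap W)
    (fun k W g => ?_) (fun W _ => ?_)
  · have e : (chi0 θ : (V ≃ₗ[F] V) → ℂ) = fun g => ∑ W : Submodule F V, if subPerm g W = W then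
        (mu g.toLinearMap W : ℂ) * esumOn L (ext0 θ) g.toLinearMap W else 0 := by
      funext g
      unfold chi0 cSum
      refine Finset.sum_congr (by ext; simp) fun W _ => ?_
      split_ifs with h
      · rfl
      · rw [mu_of_not fun h' => h ((map_eq_iff_inv g W).2 h'), Int.cast_zero, zero_mul]
    rw [e]
    exact key
  · simp only [subPerm_apply, conj_toLinearMap, mu_conj]
    by_cases h : W ≤ W.comap g.toLinearMap
    · rw [esumOn_conj _ _ h]
    · simp [mu_of_not h]
  · let ρ : Representation F (fixSub (subPerm (F := F) (V := V)) W) W :=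
      { toFun := fun g => (g : V ≃ₗ[F] V).toLinearMap.restrict (p := W) (q := W)
          fun x hx => (map_eq_iff_inv _ W).1 g.2 hx
        map_one' := LinearMap.ext fun x => Subtype.ext rfl
        map_mul' := fun g h => LinearMap.ext fun x => Subtype.ext rfl }
    have : Fintype (fixSub (subPerm (F := F) (V := V)) W) := Fintype.ofFinite _
    have h2 := isGeneralized_esum_base θ (hθ.of_dvd (Subgroup.card_subgroup_dvd_card _)) ρ
    have e : (fun g : fixSub subPerm W => (mu (g : V ≃ₗ[F] V).toLinearMap W : ℂ) *
        esumOn L (ext0 θ) (g : V ≃ₗ[F] V).toLinearMap W) =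
        (fun g : fixSub subPerm W => (mu (g : V ≃ₗ[F] V).toLinearMap W : ℂ)) *
          fun g => esum L (ext0 θ) (ρ g) := by
      funext g
      rw [Pi.mul_apply, esumOn_of_inv _ ((map_eq_iff_inv _ W).1 g.2)]
      rfl
    rw [e]
    exact isGeneralized_mul (isGeneralized_mu W) h2

end Mu

end Cfsg.Agent.GreenCusp
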