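import Cfsg.Agent.SteinbergGL.Module
import Mathlib

/-!
# Weighted Moebius sums in the lattice of subspaces of a finite vector space
-/

set_option autoImplicit false
set_option linter.unusedSectionVars false

namespace Cfsg.Agent.GreenCusp

open Module Finset
open Cfsg.Agent.SteinbergGL (mob mob_top mob_eq sum_mob_Ici mob_orderIso mob_Ici sum_mob_inf_eq
  mob_bot_coatom card_isCompl)
open scoped Classical

universe u v

/-- The product `∏_{1 ≤ i < k} (1 - Q ^ i)`. -/
def gam (Q k : ℕ) : ℤ := ∏ i ∈ Ico 1 k, (1 - (Q : ℤ) ^ i)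

theorem gam_one (Q : ℕ) : gam Q 1 = 1 := by simp [gam]

theorem gam_succ (Q k : ℕ) (hk : 1 ≤ k) : gam Q (k + 1) = (1 - (Q : ℤ) ^ k) * gam Q k := by
  rw [gam, prod_Ico_succ_top hk, mul_comm]; rfl

theorem gam_ne_zero {Q : ℕ} (hQ : 2 ≤ Q) (k : ℕ) : gam Q k ≠ 0 := by
  refine Finset.prod_ne_zero_iff.2 fun i hi => sub_ne_zero.2 fun h => ?_
  have h1 : (Q : ℤ) ^ i = ((1 : ℕ) : ℤ) := by simpa using h.symm
  have h2 : Q ^ i = 1 := by exact_mod_cast h1
  have := (mem_Ico.1 hi).1
  exact absurd h2 (Nat.one_lt_pow (by omega) (by omega)).ne'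

variable {K : Type u} [Field K] [Fintype K]
variable {V : Type v} [AddCommGroup V] [Module K V] [Finite V]

local instance (W : Submodule K V) : Finite (V ⧸ W) := Finite.of_surjective _ W.mkQ_surjective
local instance : Finite (Module.Dual K V) := Module.finite_of_finite K

noncomputable local instance : Fintype (Submodule K V) := Fintype.ofFinite _

/-- The interval above `W` below `H`, seen in the quotient by `W`. -/
theorem mob_Iic_eq_quot (W H : Submodule K V) (h : W ≤ H) :
    mob (⟨W, h⟩ : Set.Iic H) = mob (⊥ : Set.Iic (H.map W.mkQ)) := by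
  let e : Set.Ici (⟨W, h⟩ : Set.Iic H) ≃o Set.Iic (H.map W.mkQ) :=
    { toFun := fun x => ⟨x.1.1.map W.mkQ, Submodule.map_mono x.1.2⟩
      invFun := fun y => ⟨⟨y.1.comap W.mkQ, by
          have := Submodule.comap_mono (f := W.mkQ) y.2
          rwa [Submodule.comap_map_mkQ, sup_eq_right.2 h] at this⟩,
        fun v hv => by
          show W.mkQ v ∈ y.1
          rw [(Submodule.Quotient.mk_eq_zero W).2 hv |> (fun e => show W.mkQ v = 0 from e)]
          exact zero_mem _⟩
      left_inv := fun x => Subtype.ext (Subtype.ext (by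
        show (x.1.1.map W.mkQ).comap W.mkQ = x.1.1
        rw [Submodule.comap_map_mkQ, sup_eq_right.2 (show W ≤ x.1.1 from x.2)]))
      right_inv := fun y => Subtype.ext (Submodule.map_comap_eq_of_surjective W.mkQ_surjective _)
      map_rel_iff' := fun {x y} => by
        show x.1.1.map W.mkQ ≤ y.1.1.map W.mkQ ↔ x.1.1 ≤ y.1.1
        rw [Submodule.map_le_iff_le_comap, Submodule.comap_map_mkQ,
          sup_eq_right.2 (show W ≤ y.1.1 from y.2)] }
  have e0 : (⊥ : Set.Iic (H.map W.mkQ)) = e ⟨⟨W, h⟩, Set.mem_Ici.2 le_rfl⟩ :=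
    Subtype.ext (by show ⊥ = W.map W.mkQ; simp)
  rw [e0, mob_orderIso, mob_Ici]

/-- The Moebius value below a hyperplane. -/
theorem mob_below_hyperplane {H W : Submodule K V} (hH : finrank K H + 1 = finrank K V) (h : W ≤ H) :
    mob W = -((Fintype.card K : ℤ) ^ (finrank K H - finrank K W) * mob (⟨W, h⟩ : Set.Iic H)) := by
  let e := Submodule.comapMkQRelIso W
  have e0 : e (⊥ : Submodule K (V ⧸ W)) = ⟨W, Set.mem_Ici.2 le_rfl⟩ :=
    Subtype.ext (by show (⊥ : Submodule K (V ⧸ W)).comap W.mkQ = W; simp)
  have hW : mob W = mob (⊥ : Submodule K (V ⧸ W)) := by rw [← mob_orderIso e, e0, mob_Ici]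
  have hne : H ≠ ⊤ := fun e' => by rw [e', finrank_top] at hH; omega
  have hco : IsCoatom H := ⟨hne, fun H' hlt => by
    apply Submodule.eq_top_of_finrank_eq
    have := Submodule.finrank_lt_finrank_of_lt hlt
    have := Submodule.finrank_le H'
    omega⟩
  have hco' : IsCoatom (H.map W.mkQ) := by
    have hc : e (H.map W.mkQ) = ⟨H, h⟩ :=
      Subtype.ext (by show (H.map W.mkQ).comap W.mkQ = H
                      rw [Submodule.comap_map_mkQ, sup_eq_right.2 h])
    rw [← e.isCoatom_iff, hc]
    exact ⟨fun e' => hne (congrArg Subtype.val e'), fun x hx => Subtype.ext (hco.2 x.1 hx)⟩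
  obtain ⟨C, hC⟩ := exists_isCompl (H.map W.mkQ)
  have : Fintype (Submodule K (V ⧸ W)) := Fintype.ofFinite _
  have hd1 : finrank K (H.map W.mkQ) + finrank K W = finrank K H := by
    have h1 := LinearMap.finrank_range_add_finrank_ker (W.mkQ.comp H.subtype)
    rw [LinearMap.range_comp, Submodule.range_subtype, LinearMap.ker_comp, Submodule.ker_mkQ] at h1
    rwa [(Submodule.comapSubtypeEquivOfLe h).finrank_eq] at h1
  rw [hW, mob_bot_coatom hco', card_isCompl hC, mob_Iic_eq_quot W H h]
  congr 2
  have h1 : finrank K (C →ₗ[K] H.map W.mkQ) = finrank K H - finrank K W := by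
    rw [Module.finrank_linearMap]
    have h3 := Submodule.finrank_add_eq_of_isCompl hC
    have h4 := Submodule.finrank_quotient_add_finrank W
    have hC1 : finrank K C = 1 := by omega
    rw [hC1, one_mul]; omega
  rw [Module.natCard_eq_pow_finrank (K := K), h1, Nat.card_eq_fintype_card]
  push_cast
  rfl

/-- The functionals vanishing on `W`. -/
theorem card_annihilator (W : Submodule K V) :
    Nat.card {φ : Module.Dual K V // W ≤ LinearMap.ker φ} =
      Fintype.card K ^ (finrank K V - finrank K W) := by
  have e : {φ : Module.Dual K V // W ≤ LinearMap.ker φ} ≃ ↥W.dualAnnihilator :=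
    Equiv.subtypeEquivRight fun φ => by
      rw [Submodule.mem_dualAnnihilator]
      exact ⟨fun h w hw => h hw, fun h w hw => h w hw⟩
  rw [Nat.card_congr e, Module.natCard_eq_pow_finrank (K := K), Nat.card_eq_fintype_card]
  congr 1
  have := Subspace.finrank_add_finrank_dualAnnihilator_eq W
  omega

/-- The sum of `Q ^ codim` weighted by the Moebius function. -/
theorem sum_mob_codim : ∀ (k : ℕ) (V : Type v) [AddCommGroup V] [Module K V] [Finite V]
    [Fintype (Submodule K V)], finrank K V = k →
    ∑ W : Submodule K V, mob W * (Fintype.card K : ℤ) ^ (finrank K V - finrank K W) =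
      gam (Fintype.card K) (k + 1) := by
  intro k
  induction k with
  | zero =>
    intro V _ _ _ _ hk
    have := Module.finrank_zero_iff.1 hk
    have : Subsingleton (Submodule K V) := ⟨fun a b => by ext x; simp [Subsingleton.elim x 0]⟩
    rw [Fintype.sum_subsingleton _ (⊤ : Submodule K V)]
    simp [mob_top, gam_one]
  | succ k ih =>
    intro V _ _ _ _ hk
    have hnt : Nontrivial V := Module.nontrivial_of_finrank_pos (R := K) (by omega)
    have : Fintype (Module.Dual K V) := Fintype.ofFinite _
    have h1 : ∑ W : Submodule K V, mob W * (Fintype.card K : ℤ) ^ (finrank K V - finrank K W) =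
        ∑ φ : Module.Dual K V, ∑ W : Submodule K V,
          if W ≤ LinearMap.ker φ then mob W else 0 := by
      rw [Finset.sum_comm]
      refine Finset.sum_congr rfl fun W _ => ?_
      rw [← Finset.sum_filter, Finset.sum_const, nsmul_eq_mul]
      have := card_annihilator (K := K) W
      rw [Nat.card_eq_fintype_card, Fintype.card_subtype] at this
      rw [this]; push_cast; ring
    rw [h1, ← Finset.add_sum_erase _ _ (Finset.mem_univ (0 : Module.Dual K V))]
    have h0 : (∑ W : Submodule K V, if W ≤ LinearMap.ker (0 : Module.Dual K V) then mob W else 0) = 0 := by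
      simp only [LinearMap.ker_zero, le_top, if_true]
      have := sum_mob_Ici (W := (⊥ : Submodule K V)) bot_ne_top
      simpa using this
    have h2 : ∀ φ ∈ (univ : Finset (Module.Dual K V)).erase 0,
        (∑ W : Submodule K V, if W ≤ LinearMap.ker φ then mob W else 0) =
          -gam (Fintype.card K) (k + 1) := by
      intro φ hφ
      have hφ' := (Finset.mem_erase.1 hφ).1
      have hker := Module.Dual.finrank_ker_add_one_of_ne_zero hφ'
      set H := LinearMap.ker φ
      have hHk : finrank K H = k := by omega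
      have : Fintype (Submodule K H) := Fintype.ofFinite _
      rw [← ih H hHk, ← Finset.sum_filter,
        Finset.sum_subtype (p := fun W : Submodule K V => W ≤ H) (univ.filter (· ≤ H)) (by simp),
        ← Finset.sum_neg_distrib]
      refine (Fintype.sum_equiv (Submodule.mapIic H).toEquiv _ _ fun W => ?_).symm
      simp only [RelIso.coe_fn_toEquiv]
      rw [mob_below_hyperplane hker ((Submodule.mapIic H W).2)]
      have hm : mob (Submodule.mapIic H W) = mob W := mob_orderIso _ _
      have hd : finrank K (Submodule.mapIic H W : Submodule K V) = finrank K W :=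
        Submodule.finrank_map_subtype_eq H W
      rw [Subtype.coe_eta, hm, hd]; ring
    rw [h0, zero_add, Finset.sum_congr rfl h2, Finset.sum_const, Finset.card_erase_of_mem
      (Finset.mem_univ _), Finset.card_univ]
    have hc : Fintype.card (Module.Dual K V) = Fintype.card K ^ (k + 1) := by
      rw [Module.card_eq_pow_finrank (K := K), Subspace.dual_finrank_eq, hk]
    rw [hc, gam_succ _ (k + 1) (by omega), nsmul_eq_mul,
      Nat.cast_sub (Nat.one_le_pow _ _ Fintype.card_pos)]
    push_cast; ring

/-- The dimension weighted Moebius sum. -/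
theorem sum_mob_finrank [Nontrivial V] :
    ∑ W : Submodule K V, mob W * (finrank K W : ℤ) = gam (Fintype.card K) (finrank K V) := by
  obtain ⟨k, hk⟩ : ∃ k, finrank K V = k + 1 :=
    ⟨finrank K V - 1, by have := Module.finrank_pos (R := K) (M := V); omega⟩
  obtain ⟨φ, hφ⟩ : ∃ φ : Module.Dual K V, φ ≠ 0 := exists_ne 0
  have hker := Module.Dual.finrank_ker_add_one_of_ne_zero hφ
  set H := LinearMap.ker φ
  have hne : H ≠ ⊤ := fun e => hφ (LinearMap.ker_eq_top.1 e)
  have hHk : finrank K H = k := by omega
  have hdim : ∀ W : Submodule K V,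
      (finrank K W : ℤ) = finrank K (W ⊓ H : Submodule K V) + (1 - if W ≤ H then 1 else 0) := by
    intro W
    split_ifs with hW
    · rw [inf_eq_left.2 hW]; ring
    · have h1 := Submodule.finrank_sup_add_finrank_inf_eq W H
      have h2 : H < W ⊔ H := lt_of_le_of_ne le_sup_right fun e => hW (e ▸ le_sup_left)
      have h3 := Submodule.finrank_lt_finrank_of_lt h2
      have h4 := Submodule.finrank_le (W ⊔ H)
      rw [sub_zero]
      exact_mod_cast (show finrank K W = finrank K (W ⊓ H : Submodule K V) + 1 by omega)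
  have hA : ∑ W : Submodule K V, mob W * (finrank K (W ⊓ H : Submodule K V) : ℤ) = 0 := by
    rw [← Finset.sum_fiberwise (g := fun W : Submodule K V => W ⊓ H)]
    refine Finset.sum_eq_zero fun W₀ _ => ?_
    by_cases hW₀ : W₀ ≤ H
    · rw [Finset.sum_congr rfl (g := fun W => mob W * (finrank K W₀ : ℤ)) fun W hW => by
        rw [(Finset.mem_filter.1 hW).2], ← Finset.sum_mul]
      have h0 : ∑ W ∈ univ.filter (fun W : Submodule K V => W ⊓ H = W₀), mob W = 0 := by
        convert sum_mob_inf_eq hne W₀ hW₀
      exact mul_eq_zero_of_left (by convert h0) _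
    · exact Finset.sum_eq_zero fun W hW => absurd ((Finset.mem_filter.1 hW).2 ▸ inf_le_right) hW₀
  have hB : ∑ W : Submodule K V, mob W = 0 := by
    have := sum_mob_Ici (W := (⊥ : Submodule K V)) bot_ne_top
    simpa using this
  have hC : ∑ W : Submodule K V, mob W * (if W ≤ H then (1 : ℤ) else 0) =
      -gam (Fintype.card K) (k + 1) := by
    have : Fintype (Submodule K H) := Fintype.ofFinite _
    simp only [mul_ite, mul_one, mul_zero]
    rw [← sum_mob_codim k H hHk, ← Finset.sum_filter,
      Finset.sum_subtype (p := fun W : Submodule K V => W ≤ H) (univ.filter (· ≤ H)) (by simp),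
      ← Finset.sum_neg_distrib]
    refine (Fintype.sum_equiv (Submodule.mapIic H).toEquiv _ _ fun W => ?_).symm
    simp only [RelIso.coe_fn_toEquiv]
    rw [mob_below_hyperplane hker ((Submodule.mapIic H W).2)]
    have hm : mob (Submodule.mapIic H W) = mob W := mob_orderIso _ _
    have hd : finrank K (Submodule.mapIic H W : Submodule K V) = finrank K W :=
      Submodule.finrank_map_subtype_eq H W
    rw [Subtype.coe_eta, hm, hd]; ring
  rw [Finset.sum_congr rfl fun W _ => by rw [hdim W, mul_add, mul_sub, mul_one],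
    Finset.sum_add_distrib, Finset.sum_sub_distrib, hA, hB, hC, hk]
  ring

end Cfsg.Agent.GreenCusp
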