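import Cfsg.Agent.GreenCusp.Tuples

/-!
# Invariant subspaces: Moebius weights at unipotent elements
-/

set_option autoImplicit false
set_option linter.unusedSectionVars false

namespace Cfsg.Agent.GreenCusp

open Module Finset
open Cfsg.Agent.SteinbergGL (mob mob_top mob_eq sum_mob_Ici mob_orderIso mob_Ici sum_mob_inf_eq)
open scoped Classical

universe u v

variable {F : Type u} [Field F]
variable {V : Type v} [AddCommGroup V] [Module F V]

/-- The subspaces invariant under `T`. -/
abbrev InvSub (T : Module.End F V) : Type v := {W : Submodule F V // W ≤ W.comap T}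

instance (T : Module.End F V) : OrderTop (InvSub T) where
  top := ⟨⊤, fun _ _ => trivial⟩
  le_top W := show W.1 ≤ ⊤ from le_top

variable [Finite V]

/-- The Moebius weight of a subspace, zero if not invariant. -/
noncomputable def mu (T : Module.End F V) (W : Submodule F V) : ℤ :=
  if h : W ≤ W.comap T then mob (⟨W, h⟩ : InvSub T) else 0

noncomputable local instance : Fintype (Submodule F V) := Fintype.ofFinite _

/-- The weighted sum over invariant subspaces. -/
noncomputable def cSum (T : Module.End F V) (h : Submodule F V → ℂ) : ℂ :=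
  ∑ W : Submodule F V, (mu T W : ℂ) * h W

/-- The dimension weighted sum. -/
noncomputable def cDim (T : Module.End F V) : ℤ :=
  ∑ W : Submodule F V, mu T W * (finrank F W : ℤ)

theorem mu_of_not {T : Module.End F V} {W : Submodule F V} (h : ¬ W ≤ W.comap T) : mu T W = 0 :=
  dif_neg h

theorem mu_of_inv {T : Module.End F V} {W : Submodule F V} (h : W ≤ W.comap T) :
    mu T W = mob (⟨W, h⟩ : InvSub T) := dif_pos h

theorem mu_top (T : Module.End F V) : mu T ⊤ = 1 := by
  rw [mu_of_inv (show (⊤ : Submodule F V) ≤ (⊤ : Submodule F V).comap T from fun _ _ => trivial)]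
  exact mob_top

theorem mu_rec {T : Module.End F V} {W : Submodule F V} (hinv : W ≤ W.comap T) (hW : W ≠ ⊤) :
    mu T W = -∑ U ∈ univ.filter (fun U : Submodule F V => W < U), mu T U := by
  have : Fintype (InvSub T) := Fintype.ofFinite _
  rw [mu_of_inv hinv, mob_eq fun e => hW (congrArg Subtype.val e)]
  congr 1
  rw [← Finset.sum_filter_add_sum_filter_not (univ.filter fun U : Submodule F V => W < U)
    (fun U => U ≤ U.comap T), Finset.sum_eq_zero (s := (univ.filter fun U : Submodule F V => W < U).filter
      (fun U => ¬ U ≤ U.comap T)) fun U hU => mu_of_not (Finset.mem_filter.1 hU).2, add_zero]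
  refine Finset.sum_bij (fun U _ => U.1) ?_ (fun a _ b _ e => Subtype.ext e) ?_ ?_
  · intro U hU
    simp only [mem_filter, mem_univ, true_and] at hU ⊢
    exact ⟨hU, U.2⟩
  · intro U hU
    simp only [mem_filter, mem_univ, true_and] at hU
    exact ⟨⟨U, hU.2⟩, by simp only [mem_filter, mem_univ, true_and]; exact hU.1, rfl⟩
  · intro U _
    exact (mu_of_inv U.2).symm

theorem cSum_eq_sum_inv (T : Module.End F V) (h : Submodule F V → ℂ) [Fintype (InvSub T)] :
    cSum T h = ∑ W : InvSub T, (mob W : ℂ) * h W.1 := by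
  rw [cSum, ← Finset.sum_filter_add_sum_filter_not univ (fun W => W ≤ W.comap T),
    Finset.sum_eq_zero (s := univ.filter fun W : Submodule F V => ¬ W ≤ W.comap T) fun W hW => by
      rw [mu_of_not (Finset.mem_filter.1 hW).2, Int.cast_zero, zero_mul], add_zero,
    Finset.sum_subtype (p := fun W : Submodule F V => W ≤ W.comap T)
      (univ.filter fun W => W ≤ W.comap T) (by simp)]
  exact Finset.sum_congr rfl fun W _ => by rw [mu_of_inv W.2]

theorem mu_congr {T T' : Module.End F V}
    (h : ∀ W : Submodule F V, W ≤ W.comap T ↔ W ≤ W.comap T') (W : Submodule F V) :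
    mu T W = mu T' W := by
  by_cases hW : W ≤ W.comap T
  · rw [mu_of_inv hW, mu_of_inv ((h W).1 hW)]
    let e : InvSub T ≃o InvSub T' :=
      { toEquiv := Equiv.subtypeEquivRight h, map_rel_iff' := Iff.rfl }
    exact (mob_orderIso e ⟨W, hW⟩).symm
  · rw [mu_of_not hW, mu_of_not fun h' => hW ((h W).2 h')]

theorem cDim_congr {T T' : Module.End F V}
    (h : ∀ W : Submodule F V, W ≤ W.comap T ↔ W ≤ W.comap T') : cDim T = cDim T' :=
  Finset.sum_congr rfl fun W _ => by rw [mu_congr h W]

theorem eq_top_of_sup_range {N : Module.End F V} (hN : IsNilpotent N) {W : Submodule F V}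
    (hW : W ≤ W.comap N) (h : W ⊔ LinearMap.range N = ⊤) : W = ⊤ := by
  obtain ⟨n, hn⟩ := hN
  have key : ∀ i : ℕ, W ⊔ LinearMap.range (N ^ i) = ⊤ := by
    intro i
    induction i with
    | zero =>
      rw [pow_zero, show LinearMap.range (1 : Module.End F V) = ⊤ from LinearMap.range_id]
      exact sup_top_eq _
    | succ i ih =>
      rw [eq_top_iff]
      conv_lhs => rw [← h]
      refine sup_le le_sup_left ?_
      have e : LinearMap.range N = Submodule.map N W ⊔ Submodule.map N (LinearMap.range (N ^ i)) := by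
        rw [← Submodule.map_sup, ih, Submodule.map_top]
      rw [e]
      refine sup_le (le_sup_of_le_left (Submodule.map_le_iff_le_comap.2 hW)) (le_sup_of_le_right ?_)
      rw [pow_succ', Module.End.mul_eq_comp, LinearMap.range_comp]
  have := key n
  rwa [hn, LinearMap.range_zero, sup_bot_eq] at this

theorem mu_eq_zero_of_not_range {N : Module.End F V} (hN : IsNilpotent N) (W : Submodule F V)
    (hR : ¬ LinearMap.range N ≤ W) : mu N W = 0 := by
  induction W using WellFoundedGT.induction with
  | ind W ih =>
    by_cases hW : W ≤ W.comap N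
    swap
    · exact mu_of_not hW
    have hne : W ≠ ⊤ := fun e => hR (e ▸ le_top)
    set W' := W ⊔ LinearMap.range N with hW'
    have hW'inv : W' ≤ W'.comap N := fun x _ => Submodule.mem_sup_right ⟨x, rfl⟩
    have hW'ne : W' ≠ ⊤ := fun e => hne (eq_top_of_sup_range hN hW e)
    rw [mu_rec hW hne, neg_eq_zero, ← Finset.sum_filter_add_sum_filter_not _ (fun U => LinearMap.range N ≤ U),
      Finset.sum_eq_zero (s := (univ.filter fun U : Submodule F V => W < U).filter
        (fun U => ¬ LinearMap.range N ≤ U)) fun U hU => by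
          simp only [mem_filter, mem_univ, true_and] at hU
          exact ih U hU.1 hU.2, add_zero]
    have e : (univ.filter fun U : Submodule F V => W < U).filter (fun U => LinearMap.range N ≤ U) =
        insert W' (univ.filter fun U : Submodule F V => W' < U) := by
      ext U
      simp only [mem_filter, mem_univ, true_and, mem_insert]
      constructor
      · rintro ⟨h1, h2⟩
        rcases eq_or_lt_of_le (sup_le h1.le h2 : W' ≤ U) with h | h
        · exact Or.inl h.symm
        · exact Or.inr h
      · rintro (rfl | h)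
        · exact ⟨lt_of_le_of_ne le_sup_left fun e => hR (e ▸ le_sup_right), le_sup_right⟩
        · exact ⟨lt_of_le_of_lt le_sup_left h, le_sup_right.trans h.le⟩
    rw [e, Finset.sum_insert (by simp), mu_rec hW'inv hW'ne, neg_add_cancel]

theorem mu_eq_mob {N : Module.End F V} (W : Submodule F V) (hR : LinearMap.range N ≤ W) :
    mu N W = mob W := by
  have hinv : W ≤ W.comap N := fun x _ => hR ⟨x, rfl⟩
  rw [mu_of_inv hinv]
  let e : Set.Ici W ≃o Set.Ici (⟨W, hinv⟩ : InvSub N) :=
    { toFun := fun U => ⟨⟨U.1, fun x _ => U.2 (hR ⟨x, rfl⟩)⟩, U.2⟩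
      invFun := fun U => ⟨U.1.1, U.2⟩
      left_inv := fun _ => rfl
      right_inv := fun _ => rfl
      map_rel_iff' := Iff.rfl }
  have h := mob_orderIso e ⟨W, Set.mem_Ici.2 le_rfl⟩
  rw [mob_Ici, mob_Ici] at h
  exact h

variable [Fintype F]

theorem cDim_eq_sum {N : Module.End F V} (hN : IsNilpotent N) :
    cDim N = ∑ W ∈ univ.filter (fun W => LinearMap.range N ≤ W), mob W * (finrank F W : ℤ) := by
  rw [cDim, Finset.sum_filter]
  refine Finset.sum_congr rfl fun W _ => ?_
  split_ifs with h
  · rw [mu_eq_mob W h]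
  · rw [mu_eq_zero_of_not_range hN W h, zero_mul]

/-- The value at a unipotent element. -/
theorem cDim_nilpotent {N : Module.End F V} (hN : IsNilpotent N) [Nontrivial V] :
    cDim N = gam (Fintype.card F) (finrank F V - finrank F (LinearMap.range N)) := by
  set R := LinearMap.range N
  have hq : finrank F (V ⧸ R) = finrank F V - finrank F R := by
    have := Submodule.finrank_quotient_add_finrank R; omega
  have hne : R ≠ ⊤ := fun e => bot_ne_top (α := Submodule F V)
    (eq_top_of_sup_range hN bot_le (by rw [bot_sup_eq]; exact e))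
  have hnt : Nontrivial (V ⧸ R) := Submodule.Quotient.nontrivial_iff.2 hne
  have : Finite (V ⧸ R) := Finite.of_surjective _ R.mkQ_surjective
  have : Fintype (Submodule F (V ⧸ R)) := Fintype.ofFinite _
  rw [cDim_eq_sum hN, ← hq, Finset.sum_subtype (p := fun W : Submodule F V => R ≤ W)
    (univ.filter (R ≤ ·)) (by simp)]
  have hsum : ∑ W : Submodule F (V ⧸ R), mob W * ((finrank F W : ℤ) + (finrank F R : ℤ)) =
      gam (Fintype.card F) (finrank F (V ⧸ R)) := by
    have h0 : ∑ W : Submodule F (V ⧸ R), mob W = 0 := by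
      have := sum_mob_Ici (W := (⊥ : Submodule F (V ⧸ R))) bot_ne_top
      simpa using this
    rw [Finset.sum_congr rfl fun W _ => by rw [mul_add], Finset.sum_add_distrib, ← Finset.sum_mul, h0,
      zero_mul, add_zero]
    convert sum_mob_finrank (K := F) (V := V ⧸ R)
  rw [← hsum]
  refine (Fintype.sum_equiv (Submodule.comapMkQRelIso R).toEquiv _ _ fun W => ?_).symm
  simp only [RelIso.coe_fn_toEquiv]
  set U := Submodule.comapMkQRelIso R W with hU
  have h1 : mob W = mob U.1 := by rw [← mob_orderIso (Submodule.comapMkQRelIso R) W, ← hU, mob_Ici]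
  have h2 : finrank F U.1 = finrank F W + finrank F R := by
    have := LinearMap.finrank_range_add_finrank_ker (R.mkQ.comp U.1.subtype)
    rw [LinearMap.range_comp, Submodule.range_subtype, LinearMap.ker_comp, Submodule.ker_mkQ,
      (Submodule.comapSubtypeEquivOfLe U.2).finrank_eq,
      show U.1.map R.mkQ = W from Submodule.map_comap_eq_of_surjective R.mkQ_surjective W] at this
    exact this.symm
  rw [h1, h2]; push_cast; ring

variable (F V) in
/-- The nilpotent endomorphisms. -/
abbrev Nil : Type v := {N : Module.End F V // IsNilpotent N}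

variable (F V) in
/-- The weight of a nilpotent endomorphism. -/
noncomputable def wt (N : Module.End F V) : ℤ :=
  gam (Fintype.card F) (finrank F V - finrank F (LinearMap.range N))

/-- Sums over nilpotent endomorphisms with range in a proper non-zero subspace vanish. -/
theorem sum_nil_le_zero [Fintype (Nil F V)] {W : Submodule F V} (hbot : W ≠ ⊥) (htop : W ≠ ⊤) :
    ∑ N ∈ univ.filter (fun N : Nil F V => LinearMap.range N.1 ≤ W), wt F V N.1 = 0 := by
  have : Fintype V := Fintype.ofFinite _
  obtain ⟨B, hB⟩ := exists_isCompl W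
  have hWB := Submodule.finrank_add_eq_of_isCompl hB
  have hB1 : 1 ≤ finrank F B := by
    have := Submodule.finrank_lt_finrank_of_lt (lt_top_iff_ne_top.2 htop)
    rw [finrank_top] at this; omega
  have : Finite (B →ₗ[F] W) := Finite.of_injective _ DFunLike.coe_injective
  have : Fintype (B →ₗ[F] W) := Fintype.ofFinite _
  have : Finite (Module.End F W) := Finite.of_injective _ DFunLike.coe_injective
  have : Fintype {N₁ : Module.End F W // IsNilpotent N₁} := Fintype.ofFinite _
  let e := Submodule.prodEquivOfIsCompl W B hB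
  let mk : Module.End F W → (B →ₗ[F] W) → Module.End F V := fun N₁ a =>
    (W.subtype.comp (N₁.coprod a)).comp e.symm.toLinearMap
  have hmkW : ∀ N₁ a (w : W), mk N₁ a (w : V) = (N₁ w : V) := fun N₁ a w => by simp [mk, e]
  have hmkB : ∀ N₁ a (b : B), mk N₁ a (b : V) = (a b : V) := fun N₁ a b => by simp [mk, e]
  have hrange : ∀ N₁ a, LinearMap.range (mk N₁ a) =
      (LinearMap.range N₁).map W.subtype ⊔ LinearMap.range (W.subtype.comp a) := fun N₁ a => by
    show LinearMap.range ((W.subtype.comp (N₁.coprod a)).comp e.symm.toLinearMap) = _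
    rw [LinearMap.range_comp, LinearEquiv.range, Submodule.map_top, LinearMap.range_comp,
      LinearMap.range_coprod, Submodule.map_sup, LinearMap.range_comp a W.subtype]
  have hle : ∀ N₁ a, LinearMap.range (mk N₁ a) ≤ W := fun N₁ a => by
    rintro _ ⟨x, rfl⟩; exact Submodule.coe_mem _
  have hpow : ∀ N₁ a (k : ℕ) (w : W), (mk N₁ a ^ k) (w : V) = ((N₁ ^ k) w : V) := by
    intro N₁ a k w
    induction k generalizing w with
    | zero => simp
    | succ k ih => rw [pow_succ, pow_succ, Module.End.mul_apply, Module.End.mul_apply, hmkW, ih]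
  have hnil : ∀ N₁ a, IsNilpotent N₁ → IsNilpotent (mk N₁ a) := by
    rintro N₁ a ⟨k, hk⟩
    refine ⟨k + 1, LinearMap.ext fun x => ?_⟩
    rw [pow_succ, Module.End.mul_apply]
    have := hpow N₁ a k ⟨_, hle N₁ a ⟨x, rfl⟩⟩
    rw [this, hk]; rfl
  rw [Finset.sum_subtype (p := fun N : Nil F V => LinearMap.range N.1 ≤ W)
    (univ.filter fun N : Nil F V => LinearMap.range N.1 ≤ W) (by simp)]
  let Ψ : {N₁ : Module.End F W // IsNilpotent N₁} × (B →ₗ[F] W) ≃
      {N : Nil F V // LinearMap.range N.1 ≤ W} :=
    { toFun := fun p => ⟨⟨mk p.1.1 p.2, hnil _ _ p.1.2⟩, hle _ _⟩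
      invFun := fun N => (⟨N.1.1.restrict (p := W) (q := W) (fun x _ => N.2 ⟨x, rfl⟩), by
          obtain ⟨k, hk⟩ := N.1.2
          refine ⟨k, LinearMap.ext fun w => Subtype.ext ?_⟩
          rw [Module.End.pow_restrict k, LinearMap.restrict_apply]
          simp [hk]⟩,
        (N.1.1.comp B.subtype).codRestrict W fun b => N.2 ⟨b, rfl⟩)
      left_inv := fun p => by
        refine Prod.ext (Subtype.ext (LinearMap.ext fun w => Subtype.ext ?_)) (LinearMap.ext fun b => Subtype.ext ?_)
        · exact hmkW _ _ w
        · exact hmkB _ _ b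
      right_inv := fun N => by
        refine Subtype.ext (Subtype.ext (LinearMap.ext fun x => ?_))
        obtain ⟨⟨w, b⟩, rfl⟩ := e.surjective x
        show mk _ _ ((w : V) + (b : V)) = N.1.1 ((w : V) + (b : V))
        rw [map_add, map_add, hmkW, hmkB]
        rfl }
  rw [← Ψ.sum_comp, Fintype.sum_prod_type]
  refine Finset.sum_eq_zero fun N₁ _ => ?_
  have hR : (LinearMap.range N₁.1).map W.subtype < W := by
    refine lt_of_le_of_ne (Submodule.map_subtype_le W _) fun e' => ?_
    have h1 : LinearMap.range N₁.1 = ⊤ := Submodule.map_injective_of_injective W.injective_subtype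
      (e'.trans (Submodule.map_subtype_top W).symm)
    have hntW : Nontrivial W := Submodule.nontrivial_iff_ne_bot.2 hbot
    exact bot_ne_top (α := Submodule F W) (eq_top_of_sup_range N₁.2 bot_le (by rw [bot_sup_eq, h1]))
  rw [← sum_hom_zero (B := B) ((LinearMap.range N₁.1).map W.subtype) W hR hWB hB1]
  refine Finset.sum_congr rfl fun a _ => ?_
  show gam _ (finrank F V - finrank F (LinearMap.range (mk N₁.1 a))) = _
  rw [hrange]

/-- The sum of squares of the weights. -/
theorem sum_nil_sq [Fintype (Nil F V)] [Nontrivial V] :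
    ∑ N : Nil F V, wt F V N.1 ^ 2 = (finrank F V : ℤ) * ∑ N : Nil F V, wt F V N.1 := by
  have h1 : ∀ N : Nil F V, wt F V N.1 ^ 2 =
      ∑ W : Submodule F V, if LinearMap.range N.1 ≤ W then wt F V N.1 * (mob W * (finrank F W : ℤ)) else 0 := by
    intro N
    rw [← Finset.sum_filter, ← Finset.mul_sum, ← cDim_eq_sum N.2, cDim_nilpotent N.2, sq]; rfl
  rw [Finset.sum_congr rfl fun N _ => h1 N, Finset.sum_comm,
    Finset.sum_eq_single (⊤ : Submodule F V)]
  · simp only [le_top, if_true, mob_top, finrank_top, one_mul]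
    rw [← Finset.sum_mul, mul_comm]
  · intro W _ hW
    rcases eq_or_ne W ⊥ with rfl | hb
    · simp
    · rw [← Finset.sum_filter, ← Finset.sum_mul, sum_nil_le_zero hb hW, zero_mul]
  · simp

end Cfsg.Agent.GreenCusp
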