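import Cfsg.Agent.GreenCusp.Average
import Cfsg.Agent.ProjExt.SchurLift

/-!
# Cuspidal irreducible characters of the general linear group
-/

set_option autoImplicit false
set_option linter.unusedSectionVars false
set_option linter.unusedVariables false

namespace Cfsg.Agent.GreenCusp

open Module Polynomial Finset Cfsg.Agent.Char
open scoped Classical ComplexConjugate MatrixGroups

universe u

variable {F : Type u} [Field F] [Fintype F]
variable {L : Type u} [Field L] [IsAlgClosed L] [Algebra F L]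

variable (F) in
/-- The sum of a character over the Frobenius orbit, counted `n` times. -/
noncomputable def orbSum (n : ℕ) (f : L → ℂ) (x : L) : ℂ :=
  ∑ i ∈ range n, f (x ^ Fintype.card F ^ i)

theorem orbSum_eq {n a : ℕ} (hn : 1 ≤ n) (f : L → ℂ) {x : L} (hx : x ∈ rts F L n)
    (ha : n = (minpoly F x).natDegree * a) :
    orbSum F n f x = (a : ℂ) * (((minpoly F x).map (algebraMap F L)).roots.map f).sum := by
  have hi := isIntegral_rts hn hx
  set d := (minpoly F x).natDegree with hd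
  set q := Fintype.card F with hq
  have hirr := minpoly.irreducible hi
  have hper : x ^ q ^ d = x := by
    obtain ⟨c, hc⟩ := hirr.natDegree_dvd_iff_dvd_X_pow_card_pow_sub_X.1 (dvd_refl d)
    have h1 := congrArg (aeval x) hc
    rw [map_sub, map_pow, aeval_X, map_mul, minpoly.aeval, zero_mul, sub_eq_zero,
      Nat.card_eq_fintype_card] at h1
    exact h1
  have hroot : ∀ i, aeval (x ^ q ^ i) (minpoly F x) = 0 := fun i => by
    rw [aeval_pow_card_pow, minpoly.aeval, zero_pow (pow_ne_zero _ Fintype.card_ne_zero)]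
  have hinj : Set.InjOn (fun i => x ^ q ^ i) (range d : Finset ℕ) := by
    suffices ∀ i j, i ≤ j → j < d → x ^ q ^ i = x ^ q ^ j → i = j by
      intro i hi' j hj' e
      rw [mem_coe, mem_range] at hi' hj'
      rcases le_total i j with h | h
      exacts [this i j h hj' e, (this j i h hi' e.symm).symm]
    intro i j hij hj e
    have h1 := congrArg (· ^ q ^ (n - i)) e
    simp only [← pow_mul, ← pow_add] at h1
    have hin : i ≤ n := by
      rw [ha]
      exact hij.trans (hj.le.trans (Nat.le_mul_of_pos_right _ (Nat.pos_of_ne_zero fun e => by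
        rw [e, mul_zero] at ha; omega)))
    rw [Nat.add_sub_cancel' hin, pow_card_rts hn hx,
      show j + (n - i) = n + (j - i) by omega, pow_add, pow_mul, pow_card_rts hn hx] at h1
    have h2 := natDegree_dvd_of_pow hi h1.symm
    have := Nat.eq_zero_of_dvd_of_lt h2 (by omega)
    omega
  have hroots : ((minpoly F x).map (algebraMap F L)).roots =
      ((range d).image fun i => x ^ q ^ i).val := by
    refine (Multiset.eq_of_le_of_card_le ?_ ?_).symm
    · refine (Multiset.le_iff_subset (Finset.nodup _)).2 fun y hy => ?_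
      obtain ⟨i, -, rfl⟩ := Finset.mem_image.1 (Finset.mem_def.2 hy)
      rw [mem_roots ((minpoly.monic hi).map _).ne_zero, IsRoot, eval_map_algebraMap]
      exact hroot i
    · rw [IsAlgClosed.card_roots_eq_natDegree, (minpoly.monic hi).natDegree_map,
        Finset.card_val, Finset.card_image_of_injOn hinj, card_range]
  have hblock : ∀ k, ∑ i ∈ range (d * k), f (x ^ q ^ i) = (k : ℂ) * ∑ i ∈ range d, f (x ^ q ^ i) := by
    intro k
    induction k with
    | zero => simp
    | succ k ih =>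
      have hk : x ^ q ^ (d * k) = x := by
        clear ih
        induction k with
        | zero => simp
        | succ k ih => rw [Nat.mul_succ, pow_add, pow_mul, ih, hper]
      have hshift : ∀ i, x ^ q ^ (d * k + i) = x ^ q ^ i := fun i => by rw [pow_add, pow_mul, hk]
      rw [Nat.mul_succ, Finset.sum_range_add, ih]
      simp only [hshift]
      push_cast
      ring
  rw [hroots, orbSum, show range n = range (d * a) by rw [← ha], hblock]
  congr 1
  rw [← Finset.sum_image (f := f) hinj]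
  rfl

variable (F L) in
/-- The group of roots of unity of order dividing `q ^ n - 1`. -/
noncomputable abbrev torus (n : ℕ) : Subgroup Lˣ := rootsOfUnity (Fintype.card F ^ n - 1) L

theorem one_lt_card_pow {n : ℕ} (hn : 1 ≤ n) : 1 < Fintype.card F ^ n :=
  Nat.one_lt_pow (by omega) Fintype.one_lt_card

theorem neZero_torus {n : ℕ} (hn : 1 ≤ n) :
    NeZero ((Fintype.card F ^ n - 1 : ℕ) : L) ∧ NeZero (Fintype.card F ^ n - 1) := by
  have h1 := one_lt_card_pow (F := F) hn
  refine ⟨⟨?_⟩, ⟨by omega⟩⟩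
  rw [Nat.cast_sub h1.le, Nat.cast_pow, ← map_natCast (algebraMap F L),
    FiniteField.cast_card_eq_zero, map_zero, zero_pow (by omega)]
  simp

theorem sum_rts_eq {n : ℕ} (hn : 1 ≤ n) [Fintype (torus F L n)] (f : L → ℂ) :
    ∑ x ∈ rts F L n, f x = ∑ z : torus F L n, f ((z : Lˣ) : L) := by
  refine (Finset.sum_bij (fun (z : torus F L n) _ => ((z : Lˣ) : L)) ?_ ?_ ?_ fun _ _ => rfl).symm
  · intro z _
    rw [mem_rts hn, ← Units.val_pow_eq_pow_val, (mem_rootsOfUnity _ _).1 z.2, Units.val_one]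
  · intro a _ b _ e
    exact Subtype.ext (Units.ext e)
  · intro x hx
    refine ⟨⟨Units.mk0 x (rts_ne_zero hn hx), (mem_rootsOfUnity _ _).2 (Units.ext ?_)⟩, mem_univ _, rfl⟩
    rw [Units.val_pow_eq_pow_val, Units.val_mk0, (mem_rts hn).1 hx, Units.val_one]

/-- The inner product of two orbit sums counts the coincidences. -/
theorem sum_orbSum_mul {n : ℕ} (hn : 1 ≤ n) (θ θ' : Lˣ →* ℂˣ) :
    ∑ x ∈ rts F L n, orbSum F n (ext0 θ) x * conj (orbSum F n (ext0 θ') x) =
      (((range n ×ˢ range n).filter fun p => ∀ z : Lˣ, z ^ (Fintype.card F ^ n - 1) = 1 →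
        θ z ^ Fintype.card F ^ p.1 = θ' z ^ Fintype.card F ^ p.2).card : ℂ) *
        ((Fintype.card F ^ n - 1 : ℕ) : ℂ) := by
  obtain ⟨h1, h2⟩ := neZero_torus (F := F) (L := L) hn
  have : Finite (torus F L n) := inferInstance
  have : Fintype (torus F L n) := Fintype.ofFinite _
  rw [sum_rts_eq hn]
  have hcard : Fintype.card (torus F L n) = Fintype.card F ^ n - 1 := by
    rw [← Nat.card_eq_fintype_card]; exact HasEnoughRootsOfUnity.natCard_rootsOfUnity L _
  let h : ℕ × ℕ → (torus F L n →* ℂ) := fun p =>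
    (Units.coeHom ℂ).comp (((θ ^ Fintype.card F ^ p.1) * (θ' ^ Fintype.card F ^ p.2)⁻¹).comp
      (torus F L n).subtype)
  have hval : ∀ z : torus F L n,
      orbSum F n (ext0 θ) ((z : Lˣ) : L) * conj (orbSum F n (ext0 θ') ((z : Lˣ) : L)) =
        ∑ p ∈ range n ×ˢ range n, h p z := by
    intro z
    rw [orbSum, orbSum, map_sum, Finset.sum_mul_sum, Finset.sum_product]
    refine Finset.sum_congr rfl fun i _ => Finset.sum_congr rfl fun j _ => ?_
    rw [← Units.val_pow_eq_pow_val, ← Units.val_pow_eq_pow_val, ext0_units, ext0_units, map_pow,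
      map_pow]
    have hu : ‖((θ' (z : Lˣ) ^ Fintype.card F ^ j : ℂˣ) : ℂ)‖ = 1 := by
      refine Complex.norm_eq_one_of_pow_eq_one ?_ h2.out
      rw [← Units.val_pow_eq_pow_val, pow_right_comm, ← map_pow θ', (mem_rootsOfUnity _ _).1 z.2, map_one,
        one_pow, Units.val_one]
    rw [← Complex.inv_eq_conj hu, ← Units.val_inv_eq_inv_val, ← Units.val_mul]
    rfl
  rw [Finset.sum_congr rfl fun z _ => hval z, Finset.sum_comm]
  simp only [sum_hom_units, hcard]
  rw [Finset.sum_congr rfl fun p _ => show _ = if (∀ z : Lˣ, z ^ (Fintype.card F ^ n - 1) = 1 →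
      θ z ^ Fintype.card F ^ p.1 = θ' z ^ Fintype.card F ^ p.2)
      then ((Fintype.card F ^ n - 1 : ℕ) : ℂ) else 0 from ?_, ← Finset.sum_filter, Finset.sum_const,
    nsmul_eq_mul]
  have hiff : h p = 1 ↔ ∀ z : Lˣ, z ^ (Fintype.card F ^ n - 1) = 1 →
      θ z ^ Fintype.card F ^ p.1 = θ' z ^ Fintype.card F ^ p.2 := by
    rw [DFunLike.ext_iff]
    constructor
    · intro hh z hz
      have h3 := hh ⟨z, (mem_rootsOfUnity _ _).2 hz⟩
      exact mul_inv_eq_one.1 (Units.ext h3)
    · intro hh z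
      show ((θ (z : Lˣ) ^ Fintype.card F ^ p.1 * (θ' (z : Lˣ) ^ Fintype.card F ^ p.2)⁻¹ : ℂˣ) : ℂ) = 1
      rw [hh z ((mem_rootsOfUnity _ _).1 z.2), mul_inv_cancel, Units.val_one]
  simp only [hiff]
  split_ifs <;> simp

theorem coincidences_self {n : ℕ} (hn : 1 ≤ n) (θ : Lˣ →* ℂˣ)
    (hθ : NonDeg θ (Fintype.card F ^ n - 1)) :
    ((range n ×ˢ range n).filter fun p => ∀ z : Lˣ, z ^ (Fintype.card F ^ n - 1) = 1 →
        θ z ^ Fintype.card F ^ p.1 = θ z ^ Fintype.card F ^ p.2) = (range n).image fun i => (i, i) := by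
  obtain ⟨h1, h2⟩ := neZero_torus (F := F) (L := L) hn
  obtain ⟨ζ, hζ⟩ := HasEnoughRootsOfUnity.exists_primitiveRoot L (Fintype.card F ^ n - 1)
  have hu := hζ.isUnit_unit h2.out
  ext ⟨i, j⟩
  simp only [mem_filter, mem_product, mem_range, mem_image, Prod.mk.injEq]
  constructor
  · rintro ⟨⟨hi, hj⟩, h⟩
    refine ⟨i, hi, rfl, ?_⟩
    set z := (hζ.isUnit h2.out).unit
    have hz : z ^ (Fintype.card F ^ n - 1) = 1 := hu.pow_eq_one
    have h3 := h z hz
    rw [← map_pow, ← map_pow, ← mul_inv_eq_one, ← map_inv, ← map_mul] at h3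
    have h4 := hθ _ (by rw [mul_pow, inv_pow, pow_right_comm, hz, one_pow, one_mul, pow_right_comm, hz,
      one_pow, inv_one]) h3
    rw [mul_inv_eq_one] at h4
    rcases Nat.lt_or_ge 1 n with hn2 | hn2
    · have hlt : ∀ k < n, Fintype.card F ^ k < Fintype.card F ^ n - 1 := by
        intro k hk
        have hq : 2 ≤ Fintype.card F := Fintype.one_lt_card
        have e1 : Fintype.card F ^ k ≤ Fintype.card F ^ (n - 1) :=
          Nat.pow_le_pow_right (by omega) (by omega)
        have e2 : 1 < Fintype.card F ^ (n - 1) := Nat.one_lt_pow (by omega) (by omega)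
        have e3 : Fintype.card F ^ n = Fintype.card F ^ (n - 1) * Fintype.card F := by
          rw [← pow_succ, Nat.sub_add_cancel hn]
        rw [e3]
        have : Fintype.card F ^ (n - 1) * 2 ≤ Fintype.card F ^ (n - 1) * Fintype.card F :=
          Nat.mul_le_mul_left _ hq
        omega
      exact Nat.pow_right_injective Fintype.one_lt_card (hu.pow_inj (hlt i hi) (hlt j hj) h4)
    · omega
  · rintro ⟨k, hk, rfl, rfl⟩
    exact ⟨⟨hk, hk⟩, fun _ _ => rfl⟩

section Values

variable {V : Type u} [AddCommGroup V] [Module F V] [Finite V] [FiniteDimensional F V]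
  [Fintype (V ≃ₗ[F] V)]

theorem chi0_primary (θ : Lˣ →* ℂˣ) {x : L} (hx : IsIntegral F x) {g : V ≃ₗ[F] V}
    (hg : g ∈ setP V (minpoly F x)) :
    ((minpoly F x).natDegree : ℂ) * chi0 θ g =
      (((minpoly F x).map (algebraMap F L)).roots.map (ext0 θ)).sum * (cDim g.toLinearMap : ℂ) := by
  rw [setP, mem_filter] at hg
  exact cSum_esum_primary (ext0 θ) g.toLinearMap (minpoly.irreducible hx) (minpoly.monic hx) hg.2

theorem sum_setP_weights [Nontrivial V] {x : L} (hx : x ∈ rts F L (finrank F V)) :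
    ∃ a : ℕ, 1 ≤ a ∧ finrank F V = (minpoly F x).natDegree * a ∧
      ((Fintype.card F : ℂ) ^ finrank F V - 1) * ∑ g ∈ setP V (minpoly F x), (cDim g.toLinearMap : ℂ) =
        (Nat.card (V ≃ₗ[F] V) : ℂ) * (minpoly F x).natDegree ∧
      ((Fintype.card F : ℂ) ^ finrank F V - 1) *
          ∑ g ∈ setP V (minpoly F x), (cDim g.toLinearMap : ℂ) ^ 2 =
        (Nat.card (V ≃ₗ[F] V) : ℂ) * ((minpoly F x).natDegree : ℂ) ^ 2 * a := by
  obtain ⟨K, iK, a, iN, ha1, ha, hfr, hcard, hsum⟩ := sum_setP_rts L hx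
  have hB := @sum_nil_wt a ha1 K _ iK iN
  have hc : ((Fintype.card K : ℂ) ^ a - 1) = (Fintype.card F : ℂ) ^ finrank F V - 1 := by
    rw [← Nat.cast_pow, hcard, Nat.cast_pow]
  rw [hc] at hB
  have hGL : (Nat.card ((Fin a → K) ≃ₗ[K] (Fin a → K)) : ℂ) ≠ 0 := by
    have : Finite ((Fin a → K) ≃ₗ[K] (Fin a → K)) := Finite.of_injective _ DFunLike.coe_injective
    exact_mod_cast Nat.card_pos.ne'
  have : Nontrivial (Fin a → K) := by
    have : Nonempty (Fin a) := ⟨⟨0, by omega⟩⟩
    infer_instance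
  have hsq : ∑ N : Nil K (Fin a → K), (wt K (Fin a → K) N.1 : ℂ) ^ 2 =
      (a : ℂ) * ∑ N : Nil K (Fin a → K), (wt K (Fin a → K) N.1 : ℂ) := by
    have h := sum_nil_sq (F := K) (V := Fin a → K)
    rw [Module.finrank_fin_fun] at h
    exact_mod_cast h
  refine ⟨a, ha1, ha, ?_, ?_⟩
  · have h := hsum (fun z => (z : ℂ))
    simp only [Int.cast_mul, Int.cast_natCast, ← Finset.mul_sum] at h
    refine mul_left_cancel₀ hGL ?_
    linear_combination ((Fintype.card F : ℂ) ^ finrank F V - 1) * h +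
      (Nat.card (V ≃ₗ[F] V) : ℂ) * ((minpoly F x).natDegree : ℂ) * hB
  · have h := hsum (fun z => (z : ℂ) ^ 2)
    simp only [Int.cast_mul, Int.cast_natCast, mul_pow, ← Finset.mul_sum, hsq] at h
    refine mul_left_cancel₀ hGL ?_
    linear_combination ((Fintype.card F : ℂ) ^ finrank F V - 1) * h +
      (Nat.card (V ≃ₗ[F] V) : ℂ) * ((minpoly F x).natDegree : ℂ) ^ 2 * a * hB

/-- The norm of the basic class function. -/
theorem sum_chi0_sq [Nontrivial V] (θ : Lˣ →* ℂˣ)
    (hθ : NonDeg θ (Fintype.card F ^ finrank F V - 1)) :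
    ∑ g : V ≃ₗ[F] V, chi0 θ g * conj (chi0 θ g) = (Nat.card (V ≃ₗ[F] V) : ℂ) := by
  have hn : 1 ≤ finrank F V := finrank_pos
  set D := (Fintype.card F : ℂ) ^ finrank F V - 1 with hD
  have hDN : ((Fintype.card F ^ finrank F V - 1 : ℕ) : ℂ) = D := by
    rw [Nat.cast_sub (one_le_card_pow _), Nat.cast_pow, Nat.cast_one]
  have hD0 : D ≠ 0 := by
    rw [← hDN, Nat.cast_ne_zero]
    have := one_lt_card_pow (F := F) hn
    omega
  rw [sum_partition L _ (fun g P hP hd hnil => by
    rw [show chi0 θ g = 0 from (cSum_esum_nonprimary (ext0 θ) g.toLinearMap hP hd hnil).1, zero_mul])]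
  have hterm : ∀ x ∈ rts F L (finrank F V),
      ((minpoly F x).natDegree : ℂ)⁻¹ * ∑ g ∈ setP V (minpoly F x), chi0 θ g * conj (chi0 θ g) =
        (Nat.card (V ≃ₗ[F] V) : ℂ) / ((finrank F V : ℂ) * D) *
          (orbSum F (finrank F V) (ext0 θ) x * conj (orbSum F (finrank F V) (ext0 θ) x)) := by
    intro x hx
    have hi := isIntegral_rts hn hx
    obtain ⟨a, ha1, ha, -, h2⟩ := sum_setP_weights hx
    have hd0 : ((minpoly F x).natDegree : ℂ) ≠ 0 :=
      Nat.cast_ne_zero.2 (minpoly.irreducible hi).natDegree_pos.ne'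
    set d := ((minpoly F x).natDegree : ℂ) with hd
    set S := (((minpoly F x).map (algebraMap F L)).roots.map (ext0 θ)).sum with hS
    have he : ∀ g ∈ setP V (minpoly F x),
        chi0 θ g * conj (chi0 θ g) = S * conj S / d ^ 2 * (cDim g.toLinearMap : ℂ) ^ 2 := by
      intro g hg
      have h := chi0_primary θ hi hg
      rw [← hS, ← hd] at h
      have h' : chi0 θ g = S * (cDim g.toLinearMap : ℂ) / d := by
        rw [eq_div_iff hd0, ← h, mul_comm]
      rw [h', map_div₀, map_mul, map_intCast, hd, map_natCast, ← hd]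
      field_simp
    rw [Finset.sum_congr rfl he, ← Finset.mul_sum, orbSum_eq hn _ hx ha, ← hS, map_mul, map_natCast,
      show (finrank F V : ℂ) = d * a by rw [ha, Nat.cast_mul]]
    have ha0 : (a : ℂ) ≠ 0 := Nat.cast_ne_zero.2 (by omega)
    field_simp
    linear_combination (S * conj S) * h2
  rw [Finset.sum_congr rfl hterm, ← Finset.mul_sum, sum_orbSum_mul hn θ θ, coincidences_self hn θ hθ,
    Finset.card_image_of_injective _ (fun i j e => (Prod.mk.injEq _ _ _ _ ▸ e).1), card_range, hDN]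
  rw [div_mul_cancel₀]
  exact mul_ne_zero (Nat.cast_ne_zero.2 (by omega)) hD0

/-- Equal class functions come from conjugate characters of the torus. -/
theorem exists_coincidence [Nontrivial V] (θ θ' : Lˣ →* ℂˣ)
    (hθ : NonDeg θ (Fintype.card F ^ finrank F V - 1))
    (h : ∀ g : V ≃ₗ[F] V, chi0 θ g = chi0 θ' g) :
    ∃ i < finrank F V, ∀ z : Lˣ, z ^ (Fintype.card F ^ finrank F V - 1) = 1 →
      θ' z = θ z ^ Fintype.card F ^ i := by
  have hn : 1 ≤ finrank F V := finrank_pos
  set n := finrank F V with hndef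
  have heq : ∀ x ∈ rts F L n, orbSum F n (ext0 θ) x = orbSum F n (ext0 θ') x := by
    intro x hx
    have hi := isIntegral_rts hn hx
    obtain ⟨a, ha1, ha, h1, -⟩ := sum_setP_weights hx
    obtain ⟨g, hg, hg0⟩ : ∃ g ∈ setP V (minpoly F x), (cDim g.toLinearMap : ℂ) ≠ 0 := by
      by_contra! hc
      rw [Finset.sum_eq_zero hc, mul_zero, eq_comm, mul_eq_zero] at h1
      rcases h1 with h1 | h1
      · exact Nat.card_pos.ne' (by exact_mod_cast h1)
      · exact (minpoly.irreducible hi).natDegree_pos.ne' (by exact_mod_cast h1)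
    have e1 := chi0_primary θ hi hg
    rw [h g, chi0_primary θ' hi hg] at e1
    rw [orbSum_eq hn _ hx ha, orbSum_eq hn _ hx ha, mul_right_cancel₀ hg0 e1]
  have key : ∑ x ∈ rts F L n, orbSum F n (ext0 θ) x * conj (orbSum F n (ext0 θ) x) =
      ∑ x ∈ rts F L n, orbSum F n (ext0 θ) x * conj (orbSum F n (ext0 θ') x) :=
    Finset.sum_congr rfl fun x hx => by rw [← heq x hx]
  rw [sum_orbSum_mul hn, sum_orbSum_mul hn, coincidences_self hn θ hθ,
    Finset.card_image_of_injective _ (fun i j e => (Prod.mk.injEq _ _ _ _ ▸ e).1), card_range] at key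
  have h0 := (neZero_torus (F := F) (L := L) hn).2.out
  have h3 := mul_right_cancel₀ (Nat.cast_ne_zero.2 h0) key
  rw [Nat.cast_inj] at h3
  obtain ⟨⟨i, j⟩, hp⟩ := Finset.card_pos.1 (lt_of_lt_of_eq (by omega : 0 < n) h3)
  simp only [mem_filter, mem_product, mem_range] at hp
  obtain ⟨⟨hi, hj⟩, hp⟩ := hp
  refine ⟨(i + (n - j)) % n, Nat.mod_lt _ (by omega), fun z hz => ?_⟩
  have hzn : z ^ Fintype.card F ^ n = z := by
    rw [show Fintype.card F ^ n = Fintype.card F ^ n - 1 + 1 from
      (Nat.sub_add_cancel (one_le_card_pow n)).symm, pow_succ, hz, one_mul]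
  have h4 := congrArg (· ^ Fintype.card F ^ (n - j)) (hp z hz)
  simp only [← pow_mul, ← pow_add, Nat.add_sub_cancel' hj.le] at h4
  rw [← map_pow, ← map_pow θ', hzn] at h4
  rw [← h4, map_pow]
  rcases Nat.lt_or_ge (i + (n - j)) n with hlt | hge
  · rw [Nat.mod_eq_of_lt hlt]
  · rw [Nat.mod_eq_sub_mod hge, Nat.mod_eq_of_lt (by omega)]
    conv_lhs => rw [show i + (n - j) = n + (i + (n - j) - n) by omega, pow_add, pow_mul, ← map_pow θ,
      hzn]

/-- The value at a transvection-like element. -/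
theorem chi0_unipotent [Nontrivial V] (θ : Lˣ →* ℂˣ) {A : Module.End F V} (hA : IsNilpotent A)
    {g : V ≃ₗ[F] V} (hg : g.toLinearMap = 1 + A) :
    chi0 θ g = (gam (Fintype.card F) (finrank F V - finrank F (LinearMap.range A)) : ℂ) := by
  have h1 : IsIntegral F (1 : L) := isIntegral_one
  have hmem : g ∈ setP V (minpoly F (1 : L)) := by
    rw [setP, mem_filter, minpoly.one, map_sub, aeval_X, map_one, hg, add_sub_cancel_left]
    exact ⟨mem_univ _, hA⟩
  have h := chi0_primary θ h1 hmem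
  rw [minpoly.one, ← C_1, natDegree_X_sub_C, Polynomial.map_sub, map_X, map_C, roots_X_sub_C,
    Multiset.map_singleton, Multiset.sum_singleton, map_one, Nat.cast_one, one_mul] at h
  rw [h, hg, cDim_congr (T' := A) fun W => ?_, cDim_nilpotent hA]
  · rw [show ext0 θ (1 : L) = 1 by rw [← Units.val_one, ext0_units, map_one, Units.val_one], one_mul]
  · constructor
    · intro hW x hx
      have := W.sub_mem (hW hx) hx
      simpa using this
    · intro hW x hx
      exact W.add_mem hx (hW hx)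

end Values

section Matrices

variable (n : ℕ)

variable (F) in
/-- Matrices as linear automorphisms. -/
noncomputable def glEquiv : GL (Fin n) F ≃* ((Fin n → F) ≃ₗ[F] (Fin n → F)) :=
  Matrix.GeneralLinearGroup.toLin.trans (LinearMap.GeneralLinearGroup.generalLinearEquiv F (Fin n → F))

theorem glEquiv_val (g : GL (Fin n) F) :
    (glEquiv F n g).toLinearMap = Matrix.toLin' (g : Matrix (Fin n) (Fin n) F) :=
  LinearMap.ext fun _ => rfl

/-- The candidate character. -/
noncomputable def cusp (θ : Lˣ →* ℂˣ) : GL (Fin n) F → ℂ :=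
  fun g => (((-1 : ℤ) ^ (n - 1) : ℤ) : ℂ) * chi0 θ (glEquiv F n g)

variable {n}

theorem neg_one_pow_mul_gam (hn : 1 ≤ n) (Q : ℕ) :
    (((-1 : ℤ) ^ (n - 1) : ℤ) : ℂ) * (gam Q n : ℂ) = ∏ i ∈ Ico 1 n, ((Q : ℂ) ^ i - 1) := by
  have h : ∏ i ∈ Ico 1 n, ((Q : ℂ) ^ i - 1) = ∏ i ∈ Ico 1 n, (-1) * (1 - (Q : ℂ) ^ i) :=
    Finset.prod_congr rfl fun i _ => by ring
  rw [h, Finset.prod_mul_distrib, Finset.prod_const, Nat.card_Ico, gam]
  push_cast
  rfl

theorem cusp_one (hn : 1 ≤ n) (θ : Lˣ →* ℂˣ) :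
    cusp n θ (1 : GL (Fin n) F) = ∏ i ∈ Ico 1 n, ((Fintype.card F : ℂ) ^ i - 1) := by
  have : Finite ((Fin n → F) ≃ₗ[F] (Fin n → F)) := Finite.of_injective _ DFunLike.coe_injective
  have : Fintype ((Fin n → F) ≃ₗ[F] (Fin n → F)) := Fintype.ofFinite _
  have : Nonempty (Fin n) := ⟨⟨0, by omega⟩⟩
  rw [cusp, map_one, chi0_unipotent θ (A := 0) IsNilpotent.zero (by rw [add_zero]; rfl),
    LinearMap.range_zero, finrank_bot, Nat.sub_zero, Module.finrank_fin_fun, neg_one_pow_mul_gam hn]

theorem cusp_cuspidal [Fintype (GL (Fin n) F)] (θ : Lˣ →* ℂˣ) {m : ℕ} (hm : 0 < m) (hmn : m < n) :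
    (∑ g : GL (Fin n) F,
      if (∀ i j : Fin n, ¬ (i.val < m ∧ m ≤ j.val) →
        (g : Matrix (Fin n) (Fin n) F) i j = (1 : Matrix (Fin n) (Fin n) F) i j)
      then cusp n θ g else 0) = 0 := by
  have : Finite ((Fin n → F) ≃ₗ[F] (Fin n → F)) := Finite.of_injective _ DFunLike.coe_injective
  have : Fintype ((Fin n → F) ≃ₗ[F] (Fin n → F)) := Fintype.ofFinite _
  have : Nonempty (Fin n) := ⟨⟨0, by omega⟩⟩
  let W : Submodule F (Fin n → F) :=
    ⨅ i ∈ {i : Fin n | m ≤ i.val}, LinearMap.ker (LinearMap.proj (R := F) (φ := fun _ => F) i)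
  let B : Submodule F (Fin n → F) :=
    ⨅ i ∈ {i : Fin n | i.val < m}, LinearMap.ker (LinearMap.proj (R := F) (φ := fun _ => F) i)
  have hW : ∀ v, v ∈ W ↔ ∀ i : Fin n, m ≤ i.val → v i = 0 := fun v => by simp [W]
  have hB : ∀ v, v ∈ B ↔ ∀ i : Fin n, i.val < m → v i = 0 := fun v => by simp [B]
  let π : (Fin n → F) →ₗ[F] B :=
    { toFun := fun v => ⟨fun i => if i.val < m then 0 else v i, (hB _).2 fun i hi => if_pos hi⟩
      map_add' := fun v w => Subtype.ext (funext fun i => by
        show (if i.val < m then (0 : F) else v i + w i) = _ + _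
        split_ifs with h
        · show _ = (if i.val < m then (0 : F) else v i) + (if i.val < m then (0 : F) else w i)
          rw [if_pos h, if_pos h, add_zero]
        · show _ = (if i.val < m then (0 : F) else v i) + (if i.val < m then (0 : F) else w i)
          rw [if_neg h, if_neg h])
      map_smul' := fun c v => Subtype.ext (funext fun i => by
        show (if i.val < m then (0 : F) else c * v i) = c * (if i.val < m then (0 : F) else v i)
        split_ifs <;> simp) }
  have hπv : ∀ v i, (π v : Fin n → F) i = if i.val < m then 0 else v i := fun _ _ => rfl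
  have hπB : ∀ b : B, π b = b := fun b => Subtype.ext (funext fun i => by
    rw [hπv]; split_ifs with h
    · exact ((hB _).1 b.2 i h).symm
    · rfl)
  have hπW : ∀ w ∈ W, π w = 0 := fun w hw => Subtype.ext (funext fun i => by
    rw [hπv]; split_ifs with h
    · rfl
    · exact (hW w).1 hw i (by omega))
  have hcompl : IsCompl W B := by
    refine ⟨Submodule.disjoint_def.2 fun v h1 h2 => funext fun i => ?_,
      codisjoint_iff.2 (eq_top_iff.2 fun v _ => ?_)⟩
    · rcases Nat.lt_or_ge i.val m with h | h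
      · exact (hB v).1 h2 i h
      · exact (hW v).1 h1 i h
    · rw [show v = (v - π v) + π v from (sub_add_cancel v _).symm]
      refine Submodule.add_mem_sup ((hW _).2 fun i hi => ?_) (π v).2
      rw [Pi.sub_apply, hπv, if_neg (by omega), sub_self]
  have hdim := Submodule.finrank_add_eq_of_isCompl hcompl
  have hB1 : 1 ≤ finrank F B := by
    have hne : B ≠ ⊥ := Submodule.ne_bot_iff _ |>.2 ⟨Pi.single ⟨m, hmn⟩ 1,
      (hB _).2 fun i hi => Pi.single_eq_of_ne (fun e => by rw [e] at hi; exact lt_irrefl _ hi) _,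
      fun e => one_ne_zero (α := F) (by
        have := congrFun e ⟨m, hmn⟩; rwa [Pi.single_eq_same] at this)⟩
    exact Nat.one_le_iff_ne_zero.2 fun e => hne (Submodule.finrank_eq_zero.1 e)
  have hW0 : (⊥ : Submodule F (Fin n → F)) < W := bot_lt_iff_ne_bot.2 (Submodule.ne_bot_iff _ |>.2
    ⟨Pi.single ⟨0, by omega⟩ 1,
      (hW _).2 fun i hi => Pi.single_eq_of_ne (fun e => by rw [e] at hi; simp at hi; omega) _,
      fun e => one_ne_zero (α := F) (by
        have := congrFun e ⟨0, by omega⟩; rwa [Pi.single_eq_same] at this)⟩)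
  let A : (B →ₗ[F] W) → Module.End F (Fin n → F) := fun a => (W.subtype.comp a).comp π
  have hAW : ∀ a v, A a v ∈ W := fun a v => (a (π v)).2
  have hA2 : ∀ a, A a * A a = 0 := fun a => LinearMap.ext fun v => by
    show ((a (π (A a v)) : W) : Fin n → F) = 0
    rw [hπW _ (hAW a v), map_zero]; rfl
  let U : (B →ₗ[F] W) → ((Fin n → F) ≃ₗ[F] (Fin n → F)) := fun a =>
    LinearEquiv.ofLinearMap (1 + A a) (1 - A a)
      (show (1 + A a) * (1 - A a) = 1 by rw [add_mul, mul_sub, mul_sub, hA2]; simp)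
      (show (1 - A a) * (1 + A a) = 1 by rw [sub_mul, mul_add, mul_add, hA2]; simp)
  have hUv : ∀ a, (U a).toLinearMap = 1 + A a := fun a => rfl
  have hmat : ∀ g : GL (Fin n) F, ∀ i j, (g : Matrix (Fin n) (Fin n) F) i j =
      glEquiv F n g (Pi.single j 1) i := fun g i j => by
    rw [← LinearEquiv.coe_coe, glEquiv_val, Matrix.toLin'_apply, Matrix.mulVec_single_one]
    rfl
  have hbij : (∑ g : GL (Fin n) F,
      if (∀ i j : Fin n, ¬ (i.val < m ∧ m ≤ j.val) →
        (g : Matrix (Fin n) (Fin n) F) i j = (1 : Matrix (Fin n) (Fin n) F) i j)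
      then cusp n θ g else 0) = ∑ᶠ a : B →ₗ[F] W, cusp n θ ((glEquiv F n).symm (U a)) := by
    have : Finite (B →ₗ[F] W) := Finite.of_injective _ DFunLike.coe_injective
    have : Fintype (B →ₗ[F] W) := Fintype.ofFinite _
    rw [finsum_eq_sum_of_fintype, ← Finset.sum_filter]
    refine (Finset.sum_bij (fun a _ => (glEquiv F n).symm (U a)) ?_ ?_ ?_ fun _ _ => rfl).symm
    · intro a _
      refine mem_filter.2 ⟨mem_univ _, fun i j hij => ?_⟩
      rw [hmat, MulEquiv.apply_symm_apply, ← LinearEquiv.coe_coe, hUv, LinearMap.add_apply,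
        Module.End.one_apply, Pi.add_apply, Matrix.one_apply, Pi.single_apply]
      rw [show A a (Pi.single j 1) i = 0 from ?_, add_zero]
      by_cases hi : m ≤ i.val
      · exact (hW _).1 (hAW a _) i hi
      · have hj : π (Pi.single j (1 : F)) = 0 := Subtype.ext (funext fun k => by
          rw [hπv]; split_ifs with hk
          · rfl
          · rw [Pi.single_eq_of_ne]
            · rfl
            · intro e; subst e; omega)
        show ((a (π (Pi.single j 1)) : W) : Fin n → F) i = 0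
        rw [hj, map_zero]; rfl
    · intro a _ a' _ e
      have e' := congrArg LinearEquiv.toLinearMap ((glEquiv F n).symm.injective e)
      rw [hUv, hUv, add_right_inj] at e'
      refine LinearMap.ext fun b => Subtype.ext ?_
      have := LinearMap.congr_fun e' (b : Fin n → F)
      change ((a (π b) : W) : Fin n → F) = (a' (π b) : W) at this
      rwa [hπB] at this
    · intro g hg
      have hg' := (mem_filter.1 hg).2
      set T := (glEquiv F n g).toLinearMap - 1 with hT
      have hTij : ∀ i j, ¬ (i.val < m ∧ m ≤ j.val) → T (Pi.single j 1) i = 0 := fun i j h => by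
        rw [hT, LinearMap.sub_apply, Pi.sub_apply, Module.End.one_apply, LinearEquiv.coe_coe, ← hmat,
          hg' i j h, Matrix.one_apply, Pi.single_apply, sub_self]
      have hexp : ∀ v i, T v i = ∑ j, v j * T (Pi.single j 1) i := fun v i => by
        have e : v = ∑ j, v j • (Pi.single j 1 : Fin n → F) := pi_eq_sum_univ' v
        conv_lhs => rw [e]
        simp [map_sum, Finset.sum_apply]
      have hTW : ∀ v, T v ∈ W := fun v => (hW _).2 fun i hi => by
        rw [hexp]
        exact Finset.sum_eq_zero fun j _ => by rw [hTij i j (by omega), mul_zero]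
      have hTπ : ∀ v, T v = T (π v) := fun v => funext fun i => by
        rw [hexp, hexp]
        refine Finset.sum_congr rfl fun j _ => ?_
        rw [hπv]
        split_ifs with hj
        · rw [hTij i j (by omega), mul_zero, mul_zero]
        · rfl
      refine ⟨(T.comp B.subtype).codRestrict W (fun b => hTW b), mem_univ _, ?_⟩
      rw [MulEquiv.symm_apply_eq]
      refine LinearEquiv.toLinearMap_injective ?_
      rw [hUv]
      refine LinearMap.ext fun v => ?_
      show v + T (π v) = glEquiv F n g v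
      rw [← hTπ, hT, LinearMap.sub_apply, Module.End.one_apply, add_sub_cancel]
      rfl
  rw [hbij]
  have : Finite (B →ₗ[F] W) := Finite.of_injective _ DFunLike.coe_injective
  have : Fintype (B →ₗ[F] W) := Fintype.ofFinite _
  rw [finsum_eq_sum_of_fintype]
  have hval : ∀ a, cusp n θ ((glEquiv F n).symm (U a)) = (((-1 : ℤ) ^ (n - 1) : ℤ) : ℂ) *
      (gam (Fintype.card F) (finrank F (Fin n → F) -
        finrank F ((⊥ : Submodule F (Fin n → F)) ⊔ LinearMap.range (W.subtype.comp a) :
          Submodule F (Fin n → F))) : ℂ) := by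
    intro a
    rw [cusp, MulEquiv.apply_symm_apply, chi0_unipotent θ (A := A a) ⟨2, by rw [sq, hA2]⟩ (hUv a)]
    have hr : LinearMap.range (A a) =
        (⊥ : Submodule F (Fin n → F)) ⊔ LinearMap.range (W.subtype.comp a) := by
      rw [bot_sup_eq]
      show LinearMap.range ((W.subtype.comp a).comp π) = _
      rw [LinearMap.range_comp, LinearMap.range_eq_top.2 (fun b => ⟨b, hπB b⟩ : Function.Surjective π),
        Submodule.map_top]
    rw [hr]
  rw [Finset.sum_congr rfl fun a _ => hval a, ← Finset.mul_sum, ← Int.cast_sum,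
    sum_hom_zero (B := B) ⊥ W hW0 hdim hB1, Int.cast_zero, mul_zero]

variable [Fintype (GL (Fin n) F)]

theorem cusp_isIrr (hn : 1 ≤ n) (θ : Lˣ →* ℂˣ)
    (hθ : NonDeg θ (Nat.card (GL (Fin n) F))) (hθ' : NonDeg θ (Fintype.card F ^ n - 1)) :
    IsIrrCharacter (GL (Fin n) F) (cusp n θ) := by
  have : Finite ((Fin n → F) ≃ₗ[F] (Fin n → F)) := Finite.of_injective _ DFunLike.coe_injective
  have : Fintype ((Fin n → F) ≃ₗ[F] (Fin n → F)) := Fintype.ofFinite _
  have : Nonempty (Fin n) := ⟨⟨0, by omega⟩⟩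
  have hc : Nat.card (GL (Fin n) F) = Nat.card ((Fin n → F) ≃ₗ[F] (Fin n → F)) :=
    Nat.card_congr (glEquiv F n).toEquiv
  rw [hc] at hθ
  rw [show n = finrank F (Fin n → F) from (Module.finrank_fin_fun F).symm] at hθ'
  have hgen : IsGeneralizedCharacter (GL (Fin n) F) (cusp n θ) := by
    have h := isGeneralized_intCast_smul ((-1) ^ (n - 1))
      (isGeneralized_comp (glEquiv F n).toMonoidHom (isGeneralized_chi0 θ hθ))
    exact h
  refine IsGen.isIrr_of_norm_one hgen ?_ ?_
  · have hs : ∑ g : GL (Fin n) F, chi0 θ (glEquiv F n g) * conj (chi0 θ (glEquiv F n g)) =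
        ∑ g : (Fin n → F) ≃ₗ[F] (Fin n → F), chi0 θ g * conj (chi0 θ g) :=
      Fintype.sum_equiv (glEquiv F n).toEquiv _ _ fun g => rfl
    have hsq : ∀ g : GL (Fin n) F, cusp n θ g * conj (cusp n θ g) =
        chi0 θ (glEquiv F n g) * conj (chi0 θ (glEquiv F n g)) := fun g => by
      rw [cusp, map_mul, map_intCast, mul_mul_mul_comm, ← Int.cast_mul, ← pow_add, ← two_mul, pow_mul,
        neg_one_sq, one_pow, Int.cast_one, one_mul]
    rw [classInner, Finset.sum_congr rfl fun g _ => hsq g, hs, sum_chi0_sq θ hθ', hc]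
    exact inv_mul_cancel₀ (Nat.cast_ne_zero.2 Nat.card_pos.ne')
  · rw [cusp_one hn, Finset.prod_congr rfl fun i _ => show ((Fintype.card F : ℂ) ^ i - 1) =
      ((Fintype.card F ^ i - 1 : ℕ) : ℂ) by
        rw [Nat.cast_sub (one_le_card_pow i), Nat.cast_pow, Nat.cast_one],
      ← Nat.cast_prod, Complex.natCast_re]
    exact Nat.cast_pos.2 (Finset.prod_pos fun i hi => by
      have := one_lt_card_pow (F := F) (mem_Ico.1 hi).1
      omega)

variable (F n) in
/-- The candidates: irreducible cuspidal characters of the smallest degree. -/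
abbrev CuspChar : Type u :=
  {χ : Cfsg.IrrCharacter (GL (Fin n) F) //
    (χ : GL (Fin n) F → ℂ) 1 = ∏ i ∈ Finset.Ico 1 n, ((Fintype.card F : ℂ) ^ i - 1) ∧
    ∀ m : ℕ, 0 < m → m < n →
      (∑ g : GL (Fin n) F,
        if (∀ i j : Fin n, ¬ (i.val < m ∧ m ≤ j.val) →
          (g : Matrix (Fin n) (Fin n) F) i j = (1 : Matrix (Fin n) (Fin n) F) i j)
        then (χ : GL (Fin n) F → ℂ) g else 0) = 0}

theorem exists_faithful (L : Type u) [Field L] [IsAlgClosed L] (M : ℕ) [NeZero M] [NeZero (M : L)] :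
    ∃ θ : Lˣ →* ℂˣ, NonDeg θ M := by
  have hc : Nat.card (rootsOfUnity M L) = Nat.card (rootsOfUnity M ℂ) := by
    rw [Complex.card_rootsOfUnity, HasEnoughRootsOfUnity.natCard_rootsOfUnity]
  let e := mulEquivOfCyclicCardEq hc
  obtain ⟨θ, hθ⟩ := ProjExt.Schur.exists_extension (W := ℂˣ)
    (fun x k hk => by
      obtain ⟨y, hy⟩ := IsAlgClosed.exists_pow_nat_eq (x : ℂ) (Nat.pos_of_ne_zero hk)
      have hy0 : y ≠ 0 := fun e => x.ne_zero (by rw [← hy, e, zero_pow hk])
      exact ⟨Units.mk0 y hy0, Units.ext (by rw [Units.val_pow_eq_pow_val]; exact hy)⟩)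
    (rootsOfUnity M L) (eq_bot_iff.2 (inf_le_right.trans (by
      rw [commutator_def, Subgroup.commutator_le]
      intro a _ b _
      simp [commutatorElement_def])))
    ((rootsOfUnity M ℂ).subtype.comp e.toMonoidHom)
  refine ⟨θ, fun z hz hz1 => ?_⟩
  have h := hθ ⟨z, (mem_rootsOfUnity _ _).2 hz⟩
  have h1 : θ z = θ ((⟨z, (mem_rootsOfUnity _ _).2 hz⟩ : rootsOfUnity M L) : Lˣ) := rfl
  rw [h1, h] at hz1
  have h2 : e ⟨z, (mem_rootsOfUnity _ _).2 hz⟩ = 1 := Subtype.ext hz1
  exact congrArg Subtype.val ((map_eq_one_iff e e.injective).1 h2)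

theorem totient_le_card (hn : 1 ≤ n) :
    Nat.totient (Fintype.card F ^ n - 1) / n ≤ Nat.card (CuspChar F n) := by
  let L := AlgebraicClosure F
  have : Finite ((Fin n → F) ≃ₗ[F] (Fin n → F)) := Finite.of_injective _ DFunLike.coe_injective
  have : Fintype ((Fin n → F) ≃ₗ[F] (Fin n → F)) := Fintype.ofFinite _
  have : Nonempty (Fin n) := ⟨⟨0, by omega⟩⟩
  obtain ⟨p, hp⟩ := CharP.exists F
  have hpr : p.Prime := CharP.char_is_prime F p
  have : CharP L p := charP_of_injective_algebraMap (algebraMap F L).injective p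
  have : ExpChar L p := ExpChar.prime hpr
  set N := Fintype.card F ^ n - 1 with hN
  obtain ⟨hNL, hN0⟩ := neZero_torus (F := F) (L := L) hn
  set N0 := Nat.card (GL (Fin n) F) * N with hN0def
  have hN00 : N0 ≠ 0 := mul_ne_zero Nat.card_pos.ne' hN0.out
  set M := ordCompl[p] N0 with hM
  have : NeZero M := ⟨(Nat.ordCompl_pos p hN00).ne'⟩
  have hpM : ¬ p ∣ M := Nat.not_dvd_ordCompl hpr hN00
  have : NeZero (M : L) := ⟨fun e => hpM ((CharP.cast_eq_zero_iff L p M).1 e)⟩
  have hpN : ¬ p ∣ N := fun h => hNL.out ((CharP.cast_eq_zero_iff L p N).2 h)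
  have hNM : N ∣ M := by
    refine Nat.Coprime.dvd_of_dvd_mul_left (Nat.Coprime.pow_right (N0.factorization p)
      ((Nat.Prime.coprime_iff_not_dvd hpr).2 hpN).symm) ?_
    rw [hM, Nat.ordProj_mul_ordCompl_eq_self]
    exact dvd_mul_left _ _
  obtain ⟨θ₀, hθ₀⟩ := exists_faithful L M
  have hroot : ∀ z : Lˣ, z ^ N0 = 1 → z ^ M = 1 := by
    intro z hz
    rw [← Nat.ordProj_mul_ordCompl_eq_self N0 p, mul_comm, pow_mul, ← hM] at hz
    refine Units.ext (iterateFrobenius_inj L p (N0.factorization p) ?_)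
    rw [iterateFrobenius_def, iterateFrobenius_def, Units.val_one, one_pow,
      ← Units.val_pow_eq_pow_val, hz, Units.val_one]
  let c : (ZMod N)ˣ → ℕ := fun k =>
    ((Function.surjInv (ZMod.unitsMap_surjective hNM) k : (ZMod M)ˣ) : ZMod M).val
  have hcN : ∀ k, ((c k : ℕ) : ZMod N) = (k : ZMod N) := by
    intro k
    show ((((Function.surjInv (ZMod.unitsMap_surjective hNM) k : (ZMod M)ˣ) : ZMod M).val : ℕ) : ZMod N) = _
    rw [ZMod.natCast_val]
    conv_rhs => rw [← Function.surjInv_eq (ZMod.unitsMap_surjective hNM) k]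
    rfl
  let θ : (ZMod N)ˣ → (Lˣ →* ℂˣ) := fun k => θ₀ ^ c k
  have hnd : ∀ k (K : ℕ), K ∣ N0 → NonDeg (θ k) K := by
    intro k K hK z hz h1
    have hzM : z ^ M = 1 := hroot z (by obtain ⟨t, ht⟩ := hK; rw [ht, pow_mul, hz, one_pow])
    have h2 : θ₀ (z ^ c k) = 1 := by rw [map_pow]; exact h1
    have h3 := hθ₀ _ (by rw [← pow_mul, mul_comm, pow_mul, hzM, one_pow]) h2
    have hcop : (c k).Coprime M :=
      ZMod.val_coe_unit_coprime (Function.surjInv (ZMod.unitsMap_surjective hNM) k)
    have : z ^ (c k).gcd M = 1 := pow_gcd_eq_one.2 ⟨h3, hzM⟩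
    rwa [hcop.gcd_eq_one, pow_one] at this
  have hGd : Nat.card (GL (Fin n) F) ∣ N0 := dvd_mul_right _ _
  have hNd : N ∣ N0 := dvd_mul_left _ _
  let Ψ : (ZMod N)ˣ → CuspChar F n := fun k =>
    ⟨⟨cusp n (θ k), cusp_isIrr hn (θ k) (hnd k _ hGd) (hnd k _ hNd)⟩, cusp_one hn (θ k),
      fun m hm hmn => cusp_cuspidal (θ k) hm hmn⟩
  have hfib : ∀ χ ∈ (univ : Finset (ZMod N)ˣ).image Ψ,
      ((univ : Finset (ZMod N)ˣ).filter fun k => Ψ k = χ).card ≤ n := by
    intro χ hχ
    obtain ⟨k, -, rfl⟩ := Finset.mem_image.1 hχ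
    refine le_trans (Finset.card_le_card_of_injOn (fun k' => (k' : ZMod N))
      (t := (range n).image fun i => (k : ZMod N) * (Fintype.card F : ZMod N) ^ i) ?_
      (fun a _ b _ e => Units.ext e)) (le_trans Finset.card_image_le (card_range n).le)
    intro k' hk'
    rw [mem_coe, mem_filter] at hk'
    have heq : ∀ g : (Fin n → F) ≃ₗ[F] (Fin n → F), chi0 (θ k) g = chi0 (θ k') g := by
      intro g
      have h := congrFun (congrArg (fun χ : CuspChar F n => χ.1.1) hk'.2) ((glEquiv F n).symm g)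
      simp only [Ψ, cusp, MulEquiv.apply_symm_apply] at h
      exact mul_left_cancel₀ (Int.cast_ne_zero.2 (pow_ne_zero _ (by norm_num))) h.symm
    have hfin : finrank F (Fin n → F) = n := Module.finrank_fin_fun F
    obtain ⟨i, hi, hz⟩ := exists_coincidence (θ k) (θ k')
      (by rw [hfin]; exact hnd k _ hNd) heq
    rw [hfin] at hi hz
    refine Finset.mem_image.2 ⟨i, mem_range.2 hi, ?_⟩
    obtain ⟨ζ, hζ⟩ := HasEnoughRootsOfUnity.exists_primitiveRoot L N
    have hu := hζ.isUnit_unit hN0.out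
    set z := (hζ.isUnit hN0.out).unit
    have h1 := hz z hu.pow_eq_one
    change θ₀ z ^ c k' = (θ₀ z ^ c k) ^ Fintype.card F ^ i at h1
    rw [← pow_mul, ← map_pow, ← map_pow, ← mul_inv_eq_one, ← map_inv, ← map_mul] at h1
    have hzM : z ^ M = 1 := by
      obtain ⟨t, ht⟩ := hNM
      rw [ht, pow_mul, hu.pow_eq_one, one_pow]
    have h2 := hθ₀ _ (by rw [mul_pow, inv_pow, pow_right_comm, hzM, one_pow, one_mul, pow_right_comm,
      hzM, one_pow, inv_one]) h1
    rw [mul_inv_eq_one, pow_eq_pow_iff_modEq, ← hu.eq_orderOf] at h2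
    have h3 := (ZMod.natCast_eq_natCast_iff _ _ _).2 h2
    rw [Nat.cast_mul, hcN, hcN, Nat.cast_pow] at h3
    exact h3.symm
  have h1 := Finset.card_le_mul_card_image (f := Ψ) univ n hfib
  rw [Finset.card_univ, ZMod.card_units_eq_totient] at h1
  have hfinite : Finite (CuspChar F n) := inferInstance
  have : Fintype (CuspChar F n) := Fintype.ofFinite _
  refine Nat.div_le_of_le_mul (h1.trans (Nat.mul_le_mul_left n ?_))
  rw [Nat.card_eq_fintype_card]
  exact Finset.card_le_univ _

end Matrices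

end Cfsg.Agent.GreenCusp
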