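import Mathlib

/-!
# Sums over eigenvalues in an algebraic closure
-/

set_option autoImplicit false
set_option linter.unusedSectionVars false
set_option linter.unusedVariables false

namespace Cfsg.Agent.GreenCusp

open Module Polynomial
open scoped Classical

universe u v v' w

variable {F : Type u} [Field F] {V : Type v} [AddCommGroup V] [Module F V] [FiniteDimensional F V]
variable (L : Type w) [Field L] [IsAlgClosed L] [Algebra F L]

/-- The eigenvalues with multiplicity. -/
noncomputable def eig (T : Module.End F V) : Multiset L := (T.charpoly.map (algebraMap F L)).roots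

/-- The sum of a function over the eigenvalues. -/
noncomputable def esum (f : L → ℂ) (T : Module.End F V) : ℂ := ((eig L T).map f).sum

/-- The eigenvalue sum on an invariant subspace. -/
noncomputable def esumOn (f : L → ℂ) (T : Module.End F V) (W : Submodule F V) : ℂ :=
  if h : W ≤ W.comap T then esum L f (T.restrict (p := W) (q := W) fun x hx => h hx) else 0

variable {L}

theorem esumOn_of_inv (f : L → ℂ) {T : Module.End F V} {W : Submodule F V} (h : W ≤ W.comap T) :
    esumOn L f T W = esum L f (T.restrict (p := W) (q := W) fun x hx => h hx) := dif_pos h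

theorem charpoly_split (T : Module.End F V) (W : Submodule F V) (h : W ≤ W.comap T) :
    T.charpoly = (T.restrict (p := W) (q := W) fun x hx => h hx).charpoly *
      (W.mapQ W T h).charpoly := by
  set bW := Module.finBasis F W
  set bQ := Module.finBasis F (V ⧸ W)
  rw [← LinearMap.charpoly_toMatrix T (bW.sumQuot bQ), ← LinearMap.charpoly_toMatrix _ bW,
    ← LinearMap.charpoly_toMatrix (W.mapQ W T h) bQ]
  set M := LinearMap.toMatrix (bW.sumQuot bQ) (bW.sumQuot bQ) T with hM
  have e : M = Matrix.fromBlocks (LinearMap.toMatrix bW bW (T.restrict (p := W) (q := W) fun x hx => h hx))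
      M.toBlocks₁₂ 0 (LinearMap.toMatrix bQ bQ (W.mapQ W T h)) := by
    ext (i | i) (j | j)
    · rw [hM, LinearMap.toMatrix_apply, Basis.sumQuot_inl, Matrix.fromBlocks_apply₁₁,
        LinearMap.toMatrix_apply, Basis.sumQuot_repr_inl_of_mem bW bQ _ (show T (bW j : V) ∈ W from h (bW j).2)]
      rfl
    · rfl
    · rw [hM, LinearMap.toMatrix_apply, Basis.sumQuot_inl, Matrix.fromBlocks_apply₂₁,
        Basis.sumQuot_repr_inr, show W.mkQ (T (bW j : V)) = 0 from
          (Submodule.Quotient.mk_eq_zero W).2 (h (bW j).2)]
      simp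
    · rw [hM, LinearMap.toMatrix_apply, Matrix.fromBlocks_apply₂₂, LinearMap.toMatrix_apply,
        Basis.sumQuot_repr_inr, ← Basis.sumQuot_inr bW bQ j]
      rfl
  rw [e, Matrix.charpoly_fromBlocks_zero₂₁]

theorem eig_of_mul {T : Module.End F V} {V₁ : Type v'} [AddCommGroup V₁] [Module F V₁]
    [FiniteDimensional F V₁] {V₂ : Type v'} [AddCommGroup V₂] [Module F V₂] [FiniteDimensional F V₂]
    {T₁ : Module.End F V₁} {T₂ : Module.End F V₂} (h : T.charpoly = T₁.charpoly * T₂.charpoly) :
    eig L T = eig L T₁ + eig L T₂ := by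
  rw [eig, h, Polynomial.map_mul, Polynomial.roots_mul]
  · rfl
  · exact mul_ne_zero ((LinearMap.charpoly_monic T₁).map _).ne_zero
      ((LinearMap.charpoly_monic T₂).map _).ne_zero

theorem esum_split (f : L → ℂ) (T : Module.End F V) (W : Submodule F V) (h : W ≤ W.comap T) :
    esum L f T = esum L f (T.restrict (p := W) (q := W) fun x hx => h hx) + esum L f (W.mapQ W T h) := by
  rw [esum, eig_of_mul (charpoly_split T W h), Multiset.map_add, Multiset.sum_add]; rfl

theorem esum_conj {V' : Type v'} [AddCommGroup V'] [Module F V'] [FiniteDimensional F V'] (f : L → ℂ)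
    (e : V ≃ₗ[F] V') (T : Module.End F V) : esum L f (e.conj T) = esum L f T := by
  rw [esum, eig, LinearEquiv.charpoly_conj]; rfl

theorem esum_prodMap {V' : Type v} [AddCommGroup V'] [Module F V'] [FiniteDimensional F V'] (f : L → ℂ)
    (T : Module.End F V) (T' : Module.End F V') :
    esum L f (T.prodMap T') = esum L f T + esum L f T' := by
  rw [esum, eig_of_mul (LinearMap.charpoly_prodMap T T'), Multiset.map_add, Multiset.sum_add]; rfl

theorem eig_subsingleton [Subsingleton V] (T : Module.End F V) : eig L T = 0 := by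
  rw [eig, Polynomial.eq_one_of_monic_natDegree_zero (LinearMap.charpoly_monic T)
    (by rw [LinearMap.charpoly_natDegree]; exact Module.finrank_zero_of_subsingleton),
    Polynomial.map_one, Polynomial.roots_one]
  rfl

theorem esumOn_bot (f : L → ℂ) (T : Module.End F V) : esumOn L f T ⊥ = 0 := by
  rw [esumOn_of_inv f bot_le, esum, eig_subsingleton]; rfl

theorem esumOn_top (f : L → ℂ) (T : Module.End F V) : esumOn L f T ⊤ = esum L f T := by
  rw [esumOn_of_inv f (show (⊤ : Submodule F V) ≤ (⊤ : Submodule F V).comap T from fun _ _ => trivial)]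
  conv_rhs => rw [← esum_conj f (Submodule.topEquiv (R := F) (M := V)).symm T]
  rfl

theorem esumOn_sup (f : L → ℂ) {T : Module.End F V} {X Y : Submodule F V} (hd : Disjoint X Y)
    (hX : X ≤ X.comap T) (hY : Y ≤ Y.comap T) :
    esumOn L f T (X ⊔ Y) = esumOn L f T X + esumOn L f T Y := by
  have hXY : X ⊔ Y ≤ (X ⊔ Y).comap T :=
    sup_le (hX.trans (Submodule.comap_mono le_sup_left)) (hY.trans (Submodule.comap_mono le_sup_right))
  let φ : (X × Y) →ₗ[F] (X ⊔ Y : Submodule F V) :=
    (Submodule.inclusion le_sup_left).coprod (Submodule.inclusion le_sup_right)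
  have hφ : ∀ p : X × Y, ((φ p : (X ⊔ Y : Submodule F V)) : V) = (p.1 : V) + (p.2 : V) := fun p => rfl
  have hinj : Function.Injective φ := by
    rw [← LinearMap.ker_eq_bot, eq_bot_iff]
    rintro ⟨x, y⟩ hp
    have h0 : (x : V) + (y : V) = 0 := by
      rw [← hφ (x, y), LinearMap.mem_ker.1 hp]; rfl
    have hx0 : (x : V) = 0 := Submodule.disjoint_def.1 hd _ x.2
      (by rw [eq_neg_of_add_eq_zero_left h0]; exact Y.neg_mem y.2)
    exact Prod.ext (Subtype.ext hx0) (Subtype.ext (by simpa [hx0] using h0))
  have hsurj : Function.Surjective φ := fun ⟨z, hz⟩ => by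
    obtain ⟨x, hx, y, hy, rfl⟩ := Submodule.mem_sup.1 hz
    exact ⟨(⟨x, hx⟩, ⟨y, hy⟩), rfl⟩
  let e := LinearEquiv.ofBijective φ ⟨hinj, hsurj⟩
  rw [esumOn_of_inv f hXY, esumOn_of_inv f hX, esumOn_of_inv f hY, ← esum_prodMap, ← esum_conj f e]
  congr 1
  refine LinearMap.ext fun z => ?_
  obtain ⟨⟨x, y⟩, rfl⟩ := e.surjective z
  rw [LinearEquiv.conj_apply_apply, LinearEquiv.symm_apply_apply]
  exact Subtype.ext (by
    show T (((φ (x, y) : (X ⊔ Y : Submodule F V)) : V)) = _
    rw [hφ, map_add]; rfl)

theorem mem_eig_aeval {T : Module.End F V} {r : L} (hr : r ∈ eig L T) {p : F[X]}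
    (hp : aeval T p = 0) : aeval r p = 0 := by
  set b := Module.finBasis F V
  let M := LinearMap.toMatrix b b T
  let TL : Module.End L (Fin (finrank F V) → L) := (M.map (algebraMap F L)).mulVecLin
  have hc : TL.charpoly = T.charpoly.map (algebraMap F L) := by
    rw [Matrix.charpoly_mulVecLin, Matrix.charpoly_map, LinearMap.charpoly_toMatrix]
  have hev : TL.HasEigenvalue r := by
    rw [Module.End.hasEigenvalue_iff_isRoot_charpoly, hc]
    exact (Polynomial.mem_roots'.1 hr).2
  obtain ⟨x, hx⟩ := hev.exists_hasEigenvector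
  have h0 : aeval TL (p.map (algebraMap F L)) = 0 := by
    have h1 : aeval M p = 0 := by
      have : aeval M p = LinearMap.toMatrix b b (aeval T p) :=
        (Polynomial.aeval_algHom_apply (LinearMap.toMatrixAlgEquiv b).toAlgHom T p)
      rw [this, hp, map_zero]
    have h2 : aeval (M.map (algebraMap F L)) p = 0 := by
      have := Polynomial.aeval_algHom_apply ((Algebra.ofId F L).mapMatrix (m := Fin (finrank F V))) M p
      rw [h1, map_zero] at this
      exact this
    have h3 := Polynomial.aeval_algHom_apply
      (Matrix.toLinAlgEquiv' (R := L) (n := Fin (finrank F V))).toAlgHom (M.map (algebraMap F L))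
      (p.map (algebraMap F L))
    rw [Polynomial.aeval_map_algebraMap (A := L) (M.map (algebraMap F L)), h2, map_zero] at h3
    exact h3
  have h4 := Module.End.aeval_apply_of_hasEigenvector (p := p.map (algebraMap F L)) hx
  rw [h0, LinearMap.zero_apply, Polynomial.eval_map_algebraMap] at h4
  exact (smul_eq_zero.1 h4.symm).resolve_right hx.2

theorem eig_ne_zero [Nontrivial V] (T : Module.End F V) : eig L T ≠ 0 := by
  intro h
  have hc := IsAlgClosed.card_roots_eq_natDegree (p := T.charpoly.map (algebraMap F L))
  rw [show (T.charpoly.map (algebraMap F L)).roots = 0 from h, Multiset.card_zero,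
    (LinearMap.charpoly_monic T).natDegree_map, LinearMap.charpoly_natDegree] at hc
  exact (Module.finrank_pos (R := F) (M := V)).ne hc

theorem zero_not_mem_eig {T : Module.End F V} (hT : Function.Injective T) : (0 : L) ∉ eig L T := by
  intro h
  have h1 := (Polynomial.mem_roots'.1 h).2
  rw [IsRoot, Polynomial.eval_map, Polynomial.eval₂_at_zero, map_eq_zero, coeff_zero_eq_eval_zero] at h1
  have h2 : T.HasEigenvalue (0 : F) := (Module.End.hasEigenvalue_iff_isRoot_charpoly T 0).2 h1
  obtain ⟨x, hx⟩ := h2.exists_hasEigenvector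
  exact hx.2 (hT (by rw [map_zero, hx.apply_eq_smul, zero_smul]))

theorem esum_one (T : Module.End F V) : esum L (fun _ => 1) T = (finrank F V : ℂ) := by
  rw [esum, eig, Multiset.map_const', Multiset.sum_replicate, IsAlgClosed.card_roots_eq_natDegree,
    (LinearMap.charpoly_monic T).natDegree_map, LinearMap.charpoly_natDegree, nsmul_one]

theorem esumOn_one {T : Module.End F V} {W : Submodule F V} (h : W ≤ W.comap T) :
    esumOn L (fun _ => 1) T W = (finrank F W : ℂ) := by
  rw [esumOn_of_inv _ h, esum_one]

section Closed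

variable {M : Type v} [AddCommGroup M] [Module L M] [FiniteDimensional L M]

theorem eig_smul (T : Module.End L M) {c : L} (hc : c ≠ 0) :
    eig L (c • T) = (eig L T).map (c * ·) := by
  have hs : (T.charpoly.map (algebraMap L L)) = ((eig L T).map fun a => X - C a).prod :=
    (Polynomial.Splits.eq_prod_roots_of_monic (IsAlgClosed.splits _)
      ((LinearMap.charpoly_monic T).map _))
  have key : (c • T).charpoly = (((eig L T).map (c * ·)).map fun a => X - C a).prod := by
    refine Polynomial.funext fun t => ?_
    rw [LinearMap.eval_charpoly, Polynomial.eval_multiset_prod, Multiset.map_map, Multiset.map_map]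
    have e : algebraMap L (Module.End L M) t - c • T = c • (algebraMap L (Module.End L M) (t / c) - T) := by
      rw [smul_sub, Algebra.algebraMap_eq_smul_one, Algebra.algebraMap_eq_smul_one, smul_smul,
        mul_div_cancel₀ _ hc]
    have h1 : T.charpoly.eval (t / c) = ((eig L T).map fun a => t / c - a).prod := by
      rw [Algebra.algebraMap_self, Polynomial.map_id] at hs
      rw [hs, Polynomial.eval_multiset_prod, Multiset.map_map]
      congr 1
      refine Multiset.map_congr rfl fun a _ => by simp
    have hcard : Multiset.card (eig L T) = finrank L M := by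
      rw [eig, IsAlgClosed.card_roots_eq_natDegree, (LinearMap.charpoly_monic T).natDegree_map,
        LinearMap.charpoly_natDegree]
    rw [e, LinearMap.det_smul, ← LinearMap.eval_charpoly, h1, ← hcard,
      ← Multiset.prod_replicate, ← Multiset.map_const', ← Multiset.prod_map_mul]
    congr 1
    refine Multiset.map_congr rfl fun a _ => ?_
    simp [mul_sub, mul_div_cancel₀ _ hc]
  rw [eig, key, Algebra.algebraMap_self, Polynomial.map_id, Polynomial.roots_multiset_prod_X_sub_C]

theorem esum_smul (f : L → ℂ) (hmul : ∀ a b, f (a * b) = f a * f b) (T : Module.End L M) {c : L}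
    (hc : c ≠ 0) : esum L f (c • T) = f c * esum L f T := by
  rw [esum, eig_smul T hc, Multiset.map_map, esum]
  simp [hmul, Multiset.sum_map_mul_left]

theorem eig_smul_one (c : L) (h : finrank L M = 1) : eig L (c • (1 : Module.End L M)) = {c} := by
  rcases eq_or_ne c 0 with rfl | hc
  · rw [zero_smul, eig, LinearMap.charpoly_zero, h, pow_one, Polynomial.map_X, Polynomial.roots_X]
  · rw [eig_smul _ hc, eig, LinearMap.charpoly_one, h, pow_one, Polynomial.map_sub, Polynomial.map_X,
      Polynomial.map_one, ← C_1, Polynomial.roots_X_sub_C, Multiset.map_singleton, mul_one]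

end Closed

end Cfsg.Agent.GreenCusp
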