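import Cfsg.Agent.GreenCusp.Lattice
import Cfsg.Agent.GreenCusp.Roots

/-!
# Vanishing off the primary elements
-/

set_option autoImplicit false
set_option linter.unusedSectionVars false
set_option linter.unusedVariables false

namespace Cfsg.Agent.GreenCusp

open Module Polynomial Finset
open Cfsg.Agent.SteinbergGL (mob sum_mob_inf_eq)
open scoped Classical

universe u v w

variable {F : Type u} [Field F] {V : Type v} [AddCommGroup V] [Module F V] [Finite V]

noncomputable local instance : Fintype (Submodule F V) := Fintype.ofFinite _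

instance (T : Module.End F V) : Lattice (InvSub T) :=
  Subtype.lattice
    (fun {a b} ha hb => sup_le (ha.trans (Submodule.comap_mono le_sup_left))
      (hb.trans (Submodule.comap_mono le_sup_right)))
    (fun {a b} ha hb x hx => ⟨ha hx.1, hb hx.2⟩)

instance (T : Module.End F V) : BoundedOrder (InvSub T) where
  bot := ⟨⊥, bot_le⟩
  bot_le W := show (⊥ : Submodule F V) ≤ W.1 from bot_le

theorem sum_mob_mul_inf (T : Module.End F V) [Fintype (InvSub T)] {A : InvSub T} (hA : A ≠ ⊤)
    (h : InvSub T → ℂ) : ∑ W : InvSub T, (mob W : ℂ) * h (W ⊓ A) = 0 := by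
  rw [← Finset.sum_fiberwise_of_maps_to (t := univ.filter (· ≤ A)) (g := fun W : InvSub T => W ⊓ A)
    (fun W _ => mem_filter.2 ⟨mem_univ _, show (W ⊓ A).1 ≤ A.1 from inf_le_right⟩)]
  refine Finset.sum_eq_zero fun W₀ hW₀ => ?_
  rw [Finset.sum_congr rfl fun W hW => by rw [(Finset.mem_filter.1 hW).2], ← Finset.sum_mul]
  have := sum_mob_inf_eq hA W₀ (Finset.mem_filter.1 hW₀).2
  rw [← Int.cast_sum, mul_eq_zero, Int.cast_eq_zero]
  left
  convert this

theorem cSum_split (T : Module.End F V) {A B : Submodule F V} (hA : A ≤ A.comap T) (hB : B ≤ B.comap T)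
    (hd : Disjoint A B) (hAt : A ≠ ⊤) (hBt : B ≠ ⊤)
    (hsplit : ∀ W : Submodule F V, W ≤ W.comap T → W ≤ (W ⊓ A) ⊔ (W ⊓ B)) (h : Submodule F V → ℂ)
    (hadd : ∀ X Y : Submodule F V, Disjoint X Y → X ≤ X.comap T → Y ≤ Y.comap T →
      h (X ⊔ Y) = h X + h Y) :
    cSum T h = 0 := by
  have : Fintype (InvSub T) := Fintype.ofFinite _
  rw [cSum_eq_sum_inv]
  have e : ∀ W : InvSub T, h W.1 = h (W ⊓ ⟨A, hA⟩ : InvSub T).1 + h (W ⊓ ⟨B, hB⟩ : InvSub T).1 := by
    intro W
    refine (congrArg h ?_).trans (hadd _ _ (hd.mono (inf_le_right : W.1 ⊓ A ≤ A)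
      (inf_le_right : W.1 ⊓ B ≤ B)) (W ⊓ ⟨A, hA⟩ : InvSub T).2 (W ⊓ ⟨B, hB⟩ : InvSub T).2)
    exact le_antisymm (hsplit W.1 W.2) (sup_le inf_le_left inf_le_left)
  rw [Finset.sum_congr rfl fun W _ => by rw [e W, mul_add], Finset.sum_add_distrib]
  rw [sum_mob_mul_inf T (fun e' => hAt (congrArg Subtype.val e')) (fun X => h X.1),
    sum_mob_mul_inf T (fun e' => hBt (congrArg Subtype.val e')) (fun X => h X.1), add_zero]

theorem aeval_mem_of_inv {T : Module.End F V} {W : Submodule F V} (hW : W ≤ W.comap T) (p : F[X])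
    {x : V} (hx : x ∈ W) : aeval T p x ∈ W :=
  (show W ≤ W.comap (aeval T p) from by
    intro y hy
    show aeval T p y ∈ W
    induction p using Polynomial.induction_on generalizing y with
    | C a => simpa [Module.algebraMap_end_apply] using W.smul_mem a hy
    | add p q hp hq => simpa using W.add_mem (hp hy) (hq hy)
    | monomial k a hk =>
      rw [pow_succ, ← mul_assoc, map_mul, aeval_X, Module.End.mul_apply]
      exact hk (hW hy)) hx

variable (L : Type w) [Field L] [IsAlgClosed L] [Algebra F L]

theorem exists_split [FiniteDimensional F V] (T : Module.End F V) {P : F[X]} (hP : Irreducible P)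
    (hdvd : P ∣ minpoly F T) (hnil : ¬ IsNilpotent (aeval T P)) :
    ∃ A B : Submodule F V, A ≤ A.comap T ∧ B ≤ B.comap T ∧ Disjoint A B ∧ A ≠ ⊤ ∧ B ≠ ⊤ ∧
      ∀ W : Submodule F V, W ≤ W.comap T → W ≤ (W ⊓ A) ⊔ (W ⊓ B) := by
  have hm := minpoly.ne_zero (Algebra.IsIntegral.isIntegral (R := F) T)
  obtain ⟨k, b, hb, he⟩ := WfDvdMonoid.max_power_factor hm hP
  have hk : k ≠ 0 := by
    rintro rfl
    rw [pow_zero, one_mul] at he
    exact hb (he ▸ hdvd)
  have hb1 : ¬ IsUnit b := fun hu => hnil ⟨k, by
    obtain ⟨c, hc⟩ := (associated_mul_unit_left (P ^ k) b hu).symm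
    rw [← map_pow]
    have h0 := minpoly.aeval F T
    rw [he, map_mul] at h0
    obtain ⟨b', hb'⟩ := hu.exists_right_inv
    have : aeval T (P ^ k) = aeval T (P ^ k) * aeval T b * aeval T b' := by
      rw [← map_mul, ← map_mul, mul_assoc, hb', mul_one]
    rw [this, h0, zero_mul]⟩
  have hco : IsCoprime (P ^ k) b := (hP.coprime_iff_not_dvd.2 hb).pow_left
  set a := P ^ k
  have ha1 : ¬ IsUnit a := fun hu => hP.not_isUnit ((isUnit_pow_iff hk).1 hu)
  have hne : ∀ p q : F[X], minpoly F T = p * q → ¬ IsUnit q →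
      LinearMap.ker (aeval T p) ≠ ⊤ := by
    intro p q hpq hq h
    have hp0 : aeval T p = 0 := LinearMap.ker_eq_top.1 h
    obtain ⟨c, hc⟩ := minpoly.dvd F T hp0
    have hp' : p ≠ 0 := fun e => hm (by rw [hpq, e, zero_mul])
    rw [hpq, mul_assoc] at hc
    exact hq (IsUnit.of_mul_eq_one _ (mul_left_cancel₀ hp' (by rw [← hc, mul_one])))
  have hinv : ∀ p : F[X], LinearMap.ker (aeval T p) ≤ (LinearMap.ker (aeval T p)).comap T := by
    intro p x hx
    show aeval T p (T x) = 0
    have e : aeval T p * T = T * aeval T p := by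
      have := congrArg (aeval T) (X_mul : X * p = p * X)
      rw [map_mul, map_mul, aeval_X] at this
      exact this.symm
    rw [← Module.End.mul_apply, e, Module.End.mul_apply, LinearMap.mem_ker.1 hx, map_zero]
  refine ⟨LinearMap.ker (aeval T a), LinearMap.ker (aeval T b), hinv a, hinv b,
    Polynomial.disjoint_ker_aeval_of_isCoprime T hco, hne a b he hb1,
    hne b a (he.trans (mul_comm _ _)) ha1, fun W hW x hx => ?_⟩
  obtain ⟨c, c', hcc⟩ := hco
  have h0 : aeval T (a * b) = 0 := by rw [← he, minpoly.aeval]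
  have hx' : x = aeval T (c' * b) x + aeval T (c * a) x := by
    conv_lhs => rw [← Module.End.one_apply (R := F) x, ← map_one (aeval (R := F) T), ← hcc, add_comm, map_add,
      LinearMap.add_apply]
  rw [hx']
  refine Submodule.add_mem_sup ⟨aeval_mem_of_inv hW _ hx, ?_⟩ ⟨aeval_mem_of_inv hW _ hx, ?_⟩
  · show aeval T a (aeval T (c' * b) x) = 0
    rw [← Module.End.mul_apply, ← map_mul, show a * (c' * b) = c' * (a * b) from by ring, map_mul, h0,
      mul_zero, LinearMap.zero_apply]
  · show aeval T b (aeval T (c * a) x) = 0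
    rw [← Module.End.mul_apply, ← map_mul, show b * (c * a) = c * (a * b) from by ring, map_mul, h0,
      mul_zero, LinearMap.zero_apply]

variable {L}

/-- Non-primary elements have no weight. -/
theorem cSum_esum_nonprimary [FiniteDimensional F V] (f : L → ℂ) (T : Module.End F V) {P : F[X]}
    (hP : Irreducible P) (hdvd : P ∣ minpoly F T) (hnil : ¬ IsNilpotent (aeval T P)) :
    cSum T (esumOn L f T) = 0 ∧ cDim T = 0 := by
  obtain ⟨A, B, hA, hB, hd, hAt, hBt, hs⟩ := exists_split T hP hdvd hnil
  refine ⟨cSum_split T hA hB hd hAt hBt hs _ fun X Y h1 h2 h3 => esumOn_sup f h1 h2 h3, ?_⟩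
  have := cSum_split T hA hB hd hAt hBt hs (fun W => (finrank F W : ℂ)) fun X Y h1 h2 h3 => by
    have h4 := Submodule.finrank_sup_add_finrank_inf_eq X Y
    rw [h1.eq_bot, finrank_bot, add_zero] at h4
    exact_mod_cast h4
  have e : cSum T (fun W => (finrank F W : ℂ)) = (cDim T : ℂ) := by
    simp [cSum, cDim]
  rw [e] at this
  exact_mod_cast this

theorem charpoly_eq_pow [FiniteDimensional F V] (L : Type w) [Field L] [IsAlgClosed L] [Algebra F L]
    (T : Module.End F V) {P : F[X]} (hP : Irreducible P) (hmon : P.Monic)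
    (hnil : IsNilpotent (aeval T P)) : ∃ k : ℕ, T.charpoly = P ^ k := by
  obtain ⟨m, hm⟩ := hnil
  rw [← map_pow] at hm
  have h0 := (LinearMap.charpoly_monic T).ne_zero
  refine ⟨Multiset.card (UniqueFactorizationMonoid.normalizedFactors T.charpoly), ?_⟩
  have hall : ∀ g ∈ UniqueFactorizationMonoid.normalizedFactors T.charpoly, g = P := by
    intro g hg
    have hgi := UniqueFactorizationMonoid.irreducible_of_normalized_factor g hg
    have hgm : g.Monic := by
      have := UniqueFactorizationMonoid.normalize_normalized_factor g hg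
      rw [← this]
      exact Polynomial.monic_normalize hgi.ne_zero
    obtain ⟨r, hr⟩ := IsAlgClosed.exists_aeval_eq_zero L g hgi.degree_pos.ne'
    have hr' : r ∈ eig L T := by
      refine (mem_roots (((LinearMap.charpoly_monic T).map _).ne_zero)).2 ?_
      rw [IsRoot, eval_map_algebraMap]
      obtain ⟨c, hc⟩ := UniqueFactorizationMonoid.dvd_of_mem_normalizedFactors hg
      rw [hc, map_mul, hr, zero_mul]
    have h2 : aeval r P = 0 := by
      have := mem_eig_aeval hr' hm
      rw [map_pow] at this
      exact eq_zero_of_pow_eq_zero this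
    rw [minpoly.eq_of_irreducible_of_monic hP h2 hmon]
    exact minpoly.eq_of_irreducible_of_monic hgi hr hgm
  have h1 := UniqueFactorizationMonoid.prod_normalizedFactors_eq h0
  rw [(LinearMap.charpoly_monic T).normalize_eq_self] at h1
  conv_lhs => rw [← h1, Multiset.eq_replicate_card.2 hall, Multiset.prod_replicate]

/-- The eigenvalue sum of a primary endomorphism. -/
theorem esum_primary [FiniteDimensional F V] (f : L → ℂ) (T : Module.End F V) {P : F[X]}
    (hP : Irreducible P) (hmon : P.Monic) (hnil : IsNilpotent (aeval T P)) :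
    (P.natDegree : ℂ) * esum L f T = (finrank F V : ℂ) * ((P.map (algebraMap F L)).roots.map f).sum := by
  obtain ⟨k, hk⟩ := charpoly_eq_pow L T hP hmon hnil
  have hd : finrank F V = k * P.natDegree := by
    rw [← LinearMap.charpoly_natDegree T, hk, natDegree_pow]
  rw [esum, eig, hk, Polynomial.map_pow, roots_pow, Multiset.map_nsmul, Multiset.sum_nsmul, hd,
    nsmul_eq_mul]
  push_cast
  ring

/-- At a primary element the weighted eigenvalue sum is proportional to the dimension weight. -/
theorem cSum_esum_primary [FiniteDimensional F V] (f : L → ℂ) (T : Module.End F V) {P : F[X]}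
    (hP : Irreducible P) (hmon : P.Monic) (hnil : IsNilpotent (aeval T P)) :
    (P.natDegree : ℂ) * cSum T (esumOn L f T) =
      ((P.map (algebraMap F L)).roots.map f).sum * (cDim T : ℂ) := by
  rw [cSum, cDim, Int.cast_sum, Finset.mul_sum, Finset.mul_sum]
  refine Finset.sum_congr rfl fun W _ => ?_
  by_cases hW : W ≤ W.comap T
  · obtain ⟨m, hm⟩ := hnil
    have hn : IsNilpotent (aeval (T.restrict (p := W) (q := W) fun x hx => hW hx) P) := by
      refine ⟨m, ?_⟩
      rw [← map_pow] at hm ⊢
      refine LinearMap.ext fun x => Subtype.ext ?_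
      have key : ∀ p : F[X], ((aeval (T.restrict (p := W) (q := W) fun x hx => hW hx) p x : W) : V) =
          aeval T p (x : V) := by
        intro p
        induction p using Polynomial.induction_on generalizing x with
        | C a => simp [Module.algebraMap_end_apply]
        | add p q hp hq => simp [hp, hq]
        | monomial k a hk =>
          rw [pow_succ, ← mul_assoc, map_mul, map_mul _ (C a * X ^ k), aeval_X, aeval_X,
            Module.End.mul_apply, Module.End.mul_apply, hk, LinearMap.restrict_apply]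
      rw [key, hm]
      rfl
    have h := esum_primary f (T.restrict (p := W) (q := W) fun x hx => hW hx) hP hmon hn
    rw [← esumOn_of_inv f hW] at h
    rw [mul_left_comm, h]
    push_cast
    ring
  · simp [mu_of_not hW]

end Cfsg.Agent.GreenCusp
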