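import Cfsg.Agent.GreenCusp.Gamma

/-!
# The vanishing sums behind cuspidality
-/

set_option autoImplicit false
set_option linter.unusedSectionVars false

namespace Cfsg.Agent.GreenCusp

open Module Finset
open scoped Classical

universe u v

variable {K : Type u} [Field K] [Fintype K]
variable {X : Type v} [AddCommGroup X] [Module K X] [Fintype X]

theorem sum_tuples_zero (hX : 1 ≤ finrank K X) : ∀ l : ℕ, 1 ≤ l →
    ∑ v : Fin l → X, gam (Fintype.card K) (finrank K X + l - finrank K (Submodule.span K (Set.range v))) = 0 := by
  set m := finrank K X with hm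
  set Q := Fintype.card K with hQdef
  have step : ∀ l : ℕ,
      ∑ v : Fin (l + 1) → X, gam Q (m + (l + 1) - finrank K (Submodule.span K (Set.range v))) =
        ((Q : ℤ) ^ m - (Q : ℤ) ^ (m + l)) *
          ∑ v : Fin l → X, gam Q (m + l - finrank K (Submodule.span K (Set.range v))) := by
    intro l
    rw [← (Fin.consEquiv fun _ : Fin (l + 1) => X).sum_comp, Fintype.sum_prod_type, Finset.sum_comm,
      Finset.mul_sum]
    refine Finset.sum_congr rfl fun w _ => ?_
    set S := Submodule.span K (Set.range w) with hS
    set r := finrank K S with hr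
    have hrl : r ≤ l := (finrank_range_le_card w).trans_eq (Fintype.card_fin l)
    have hrm : r ≤ m := Submodule.finrank_le S
    have key : ∀ x : X, finrank K (Submodule.span K
        (Set.range ((Fin.consEquiv fun _ : Fin (l + 1) => X) (x, w)))) = if x ∈ S then r else r + 1 := by
      intro x
      have e : Submodule.span K (Set.range ((Fin.consEquiv fun _ : Fin (l + 1) => X) (x, w))) =
          (K ∙ x) ⊔ S := by
        show Submodule.span K (Set.range (Fin.cons x w)) = _
        rw [Fin.range_cons, Submodule.span_insert]
      rw [e]
      split_ifs with hx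
      · rw [sup_eq_right.2 ((Submodule.span_singleton_le_iff_mem x S).2 hx)]
      · have hx0 : x ≠ 0 := fun e0 => hx (e0 ▸ S.zero_mem)
        have h1 := Submodule.finrank_sup_add_finrank_inf_eq (K ∙ x) S
        have h2 : (K ∙ x) ⊓ S = ⊥ := disjoint_iff.1 ((Submodule.disjoint_span_singleton'
          hx0).2 hx).symm
        rw [h2, finrank_bot, add_zero, finrank_span_singleton hx0] at h1
        omega
    simp only [key, apply_ite (fun j => gam Q (m + (l + 1) - j))]
    rw [Finset.sum_ite, Finset.sum_const, Finset.sum_const, nsmul_eq_mul, nsmul_eq_mul]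
    have hcard : (univ.filter (fun x : X => x ∈ S)).card = Q ^ r := by
      rw [← Fintype.card_subtype]
      exact Module.card_eq_pow_finrank (K := K) (V := S)
    have hcard' : (univ.filter (fun x : X => x ∉ S)).card = Q ^ m - Q ^ r := by
      rw [Finset.filter_not, Finset.card_sdiff, Finset.inter_univ, hcard, Finset.card_univ,
        Module.card_eq_pow_finrank (K := K) (V := X)]
    rw [hcard, hcard', Nat.cast_sub (Nat.pow_le_pow_right Fintype.card_pos hrm)]
    have e1 : m + (l + 1) - r = (m + l - r) + 1 := by omega
    have e2 : m + (l + 1) - (r + 1) = m + l - r := by omega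
    have e3 : (Q : ℤ) ^ r * (Q : ℤ) ^ (m + l - r) = (Q : ℤ) ^ (m + l) := by
      rw [← pow_add]; congr 1; omega
    rw [e1, e2, gam_succ Q (m + l - r) (by omega)]
    push_cast
    linear_combination -(gam Q (m + l - r)) * e3
  intro l hl
  induction l with
  | zero => omega
  | succ l ih =>
    rw [step l]
    rcases Nat.eq_zero_or_pos l with rfl | hl'
    · simp
    · rw [ih hl', mul_zero]

variable {V : Type v} [AddCommGroup V] [Module K V] [Fintype V]
variable {B : Type v} [AddCommGroup B] [Module K B] [Fintype B]

/-- The sum over all maps into `W` of the corank weight vanishes. -/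
theorem sum_hom_zero (R W : Submodule K V) (hRW : R < W) (hdim : finrank K W + finrank K B = finrank K V)
    (hB : 1 ≤ finrank K B) [Fintype (B →ₗ[K] W)] :
    ∑ a : B →ₗ[K] W, gam (Fintype.card K)
      (finrank K V - finrank K (R ⊔ LinearMap.range (W.subtype.comp a) : Submodule K V)) = 0 := by
  set l := finrank K B with hl
  let R' : Submodule K W := R.comap W.subtype
  have hR' : finrank K R' = finrank K R := (Submodule.comapSubtypeEquivOfLe hRW.le).finrank_eq
  have hWR : finrank K (W ⧸ R') + finrank K R = finrank K W := by
    rw [← hR']; exact Submodule.finrank_quotient_add_finrank R'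
  have hlt : finrank K R < finrank K W := Submodule.finrank_lt_finrank_of_lt hRW
  let b : Basis (Fin l) K B := Module.finBasis K B
  have : Fintype (W ⧸ R') := Fintype.ofFinite _
  have key : ∀ a : B →ₗ[K] W,
      finrank K (R ⊔ LinearMap.range (W.subtype.comp a) : Submodule K V) =
        finrank K R + finrank K (Submodule.span K (Set.range (R'.mkQ ∘ (a ∘ b)))) := by
    intro a
    have h1 : R ⊔ LinearMap.range (W.subtype.comp a) = (R' ⊔ LinearMap.range a).map W.subtype := by
      rw [Submodule.map_sup, LinearMap.range_comp, Submodule.map_comap_subtype, inf_eq_right.2 hRW.le]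
    rw [h1, Submodule.finrank_map_subtype_eq]
    have h2 : Submodule.span K (Set.range (R'.mkQ ∘ (a ∘ b))) = (R' ⊔ LinearMap.range a).map R'.mkQ := by
      rw [← Function.comp_assoc, Set.range_comp, ← LinearMap.coe_comp, Submodule.span_image,
        b.span_eq, Submodule.map_top, LinearMap.range_comp, Submodule.map_sup,
        Submodule.mkQ_map_self, bot_sup_eq]
    rw [h2]
    have h3 := LinearMap.finrank_range_add_finrank_ker (R'.mkQ.comp (R' ⊔ LinearMap.range a).subtype)
    rw [LinearMap.range_comp, Submodule.range_subtype, LinearMap.ker_comp, Submodule.ker_mkQ,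
      (Submodule.comapSubtypeEquivOfLe le_sup_left).finrank_eq, hR'] at h3
    omega
  let F : (Fin l → W ⧸ R') → ℤ := fun v => gam (Fintype.card K)
    (finrank K (W ⧸ R') + l - finrank K (Submodule.span K (Set.range v)))
  calc _ = ∑ v : Fin l → W, F (R'.mkQ ∘ v) := by
        refine Fintype.sum_equiv (b.constr K).toEquiv.symm _ _ fun a => ?_
        rw [key a]
        show _ = F (R'.mkQ ∘ ((b.constr K).symm a))
        have : (b.constr K).symm a = a ∘ b := rfl
        rw [this]
        congr 1
        omega
    _ = (Nat.card R' : ℤ) ^ l * ∑ v : Fin l → W ⧸ R', F v := by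
        rw [← Finset.sum_fiberwise (g := fun v : Fin l → W => R'.mkQ ∘ v), Finset.mul_sum]
        refine Finset.sum_congr rfl fun v _ => ?_
        rw [Finset.sum_congr rfl fun x hx => by rw [(Finset.mem_filter.1 hx).2], Finset.sum_const,
          nsmul_eq_mul, ← Fintype.card_subtype]
        congr 1
        have e : {x : Fin l → W // R'.mkQ ∘ x = v} ≃ ((i : Fin l) → {y : W // R'.mkQ y = v i}) :=
          { toFun := fun x i => ⟨x.1 i, congrFun x.2 i⟩
            invFun := fun y => ⟨fun i => (y i).1, funext fun i => (y i).2⟩
            left_inv := fun x => rfl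
            right_inv := fun y => rfl }
        rw [Fintype.card_congr e, Fintype.card_pi]
        push_cast
        rw [Finset.prod_congr rfl (g := fun _ => (Nat.card R' : ℤ)), Finset.prod_const,
          Finset.card_univ, Fintype.card_fin]
        intro i _
        obtain ⟨y₀, hy₀⟩ := R'.mkQ_surjective (v i)
        rw [Nat.card_eq_fintype_card]
        congr 1
        exact Fintype.card_congr
          { toFun := fun y => (⟨y.1 - y₀, (Submodule.Quotient.eq R').1 (y.2.trans hy₀.symm)⟩ : R')
            invFun := fun r => ⟨r.1 + y₀, by
              rw [map_add, hy₀]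
              rw [show R'.mkQ r.1 = 0 from (Submodule.Quotient.mk_eq_zero R').2 r.2, zero_add]⟩
            left_inv := fun y => Subtype.ext (sub_add_cancel _ _)
            right_inv := fun r => Subtype.ext (add_sub_cancel_right _ _) }
    _ = 0 := by rw [sum_tuples_zero (by omega) l hB, mul_zero]

end Cfsg.Agent.GreenCusp
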